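import Cfsg.Agent.Lib.AltE6.Cover
import Cfsg.Agent.Lib.ToralSection.Lift
import Cfsg.Agent.Lib.Cores.Frattini
import Cfsg.Agent.Lib.PAutPrime.Basic
import Cfsg.Agent.Lib.RankTwo.Auto

/-!
# Elementary abelian sections of simple groups inside groups with an almost Sylow torus

* `exists_conj_relIndex` : subgroups of prime power order meet a conjugate of the torus in index at most `s`;
* `frattini_bound`       : their Frattini quotients are small;
* `central`              : the Sylow subgroup of the kernel of a minimal cover is central;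
* `exists_hom_lift`      : an elementary abelian Sylow subgroup of the quotient lifts with its automizer.
-/

set_option autoImplicit false
set_option linter.style.haveILetI false

namespace Cfsg.Agent.AltE7

open Subgroup
open scoped commutatorElement

variable {s : ℕ} [hs : Fact s.Prime]

section Torus

variable {G : Type*} [Group G] [Finite G] {T : Subgroup G}

/-- Subgroups of prime power order meet a conjugate of `T` in index at most `s`. -/
theorem exists_conj_relIndex (hidx : ¬ s ^ 2 ∣ T.index) {U : Subgroup G} (hU : IsPGroup s U) :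
    ∃ c : G, T.relIndex (U.map (MulAut.conj c).toMonoidHom) ≤ s := by
  obtain ⟨Pt⟩ : Nonempty (Sylow s T) := inferInstance
  set P₀ := (Pt : Subgroup T).map T.subtype with hP₀
  obtain ⟨S₀, hS₀⟩ := (Pt.isPGroup'.map T.subtype : IsPGroup s P₀).exists_le_sylow
  obtain ⟨S, hS⟩ := hU.exists_le_sylow
  obtain ⟨c, hc⟩ := MulAction.exists_smul_eq G S S₀
  refine ⟨c, ?_⟩
  have hle : U.map (MulAut.conj c).toMonoidHom ≤ S₀ := by
    rw [← hc]
    exact Subgroup.map_mono hS
  have h1 : (Nat.card G).factorization s ≤ (Nat.card T).factorization s + 1 := by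
    rw [← T.card_mul_index, Nat.factorization_mul Nat.card_pos.ne' Subgroup.index_ne_zero_of_finite,
      Finsupp.add_apply]
    refine Nat.add_le_add_left ?_ _
    by_contra h
    exact hidx ((hs.out.pow_dvd_iff_le_factorization Subgroup.index_ne_zero_of_finite).2 (by omega))
  have h2 : Nat.card P₀ * P₀.relIndex S₀ = Nat.card (S₀ : Subgroup G) := by
    have e := (P₀.subgroupOf S₀).card_mul_index
    rwa [Nat.card_congr (Subgroup.subgroupOfEquivOfLe hS₀).toEquiv] at e
  rw [Subgroup.card_map_of_injective T.subtype_injective, Sylow.card_eq_multiplicity,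
    Sylow.card_eq_multiplicity] at h2
  have h3 : P₀.relIndex S₀ ≤ s := by
    refine Nat.le_of_mul_le_mul_left ?_ (pow_pos hs.out.pos ((Nat.card T).factorization s))
    rw [h2, ← pow_succ]
    exact Nat.pow_le_pow_right hs.out.pos h1
  have hP₀T : P₀ ≤ T := Subgroup.map_subtype_le _
  exact le_trans (Subgroup.relIndex_le_of_le_left hP₀T Subgroup.index_ne_zero_of_finite)
    (le_trans (Subgroup.relIndex_le_of_le_right hle Subgroup.index_ne_zero_of_finite) h3)

/-- The Frattini quotient of a subgroup of prime power order is small. -/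
theorem frattini_bound (hab : ∀ a ∈ T, ∀ b ∈ T, a * b = b * a) (hidx : ¬ s ^ 2 ∣ T.index) {n : ℕ}
    (hker : Nat.card {t : G // t ∈ T ∧ t ^ s = 1} ≤ s ^ n) {H : Type*} [Group H] [Finite H]
    (ι : H →* G) (hι : Function.Injective ι) (R : Subgroup H) (hR : IsPGroup s R) :
    ∃ j ≤ n + 1, (frattini R).index = s ^ j := by
  classical
  obtain ⟨c, hc⟩ := exists_conj_relIndex hidx (hR.map ι)
  let f : R →* G := ((MulAut.conj c).toMonoidHom.comp ι).comp R.subtype
  have hf : Function.Injective f := (MulAut.conj c).injective.comp (hι.comp R.subtype_injective)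
  set A0 := T.comap f with hA0
  have hA0i : A0.index ≤ s := by
    have e : f.range = (R.map ι).map (MulAut.conj c).toMonoidHom := by
      rw [Subgroup.map_map, MonoidHom.range_comp, Subgroup.range_subtype]
    rw [hA0, Subgroup.index_comap, e]
    exact hc
  letI : CommGroup A0 :=
    { (inferInstance : Group A0) with
      mul_comm := fun a b => Subtype.ext (hf (by
        rw [Subgroup.coe_mul, Subgroup.coe_mul, map_mul, map_mul]
        exact hab _ a.2 _ b.2)) }
  let pw : A0 →* A0 :=
    { toFun := fun a => a ^ s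
      map_one' := one_pow _
      map_mul' := fun a b => mul_pow a b s }
  set B := pw.range.map A0.subtype with hB
  have hBΦ : B ≤ frattini R := by
    rintro _ ⟨_, ⟨a, rfl⟩, rfl⟩
    exact Cores.pow_mem_frattini hR (a : R)
  have hkerle : Nat.card pw.ker ≤ s ^ n := by
    refine le_trans (Nat.card_le_card_of_injective (fun a : pw.ker => (⟨f ((a : A0) : R), (a : A0).2, ?_⟩ :
      {t : G // t ∈ T ∧ t ^ s = 1})) ?_) hker
    · have : ((a : A0) : R) ^ s = 1 := congrArg Subtype.val (MonoidHom.mem_ker.1 a.2)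
      rw [← map_pow, this, map_one]
    · intro a b e
      exact Subtype.ext (Subtype.ext (hf (congrArg Subtype.val e)))
  have hcard : Nat.card R ≤ Nat.card B * s ^ (n + 1) := by
    rw [← A0.card_mul_index, ← pw.ker.card_mul_index, Subgroup.index_ker, hB,
      Subgroup.card_map_of_injective A0.subtype_injective, pow_succ, mul_comm (Nat.card pw.ker), mul_assoc]
    exact Nat.mul_le_mul_left _ (Nat.mul_le_mul hkerle hA0i)
  have hΦ : (frattini R).index ≤ s ^ (n + 1) := by
    refine Nat.le_of_mul_le_mul_left ?_ (Nat.card_pos (α := frattini R))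
    rw [Subgroup.card_mul_index]
    exact hcard.trans (Nat.mul_le_mul_right _ (Subgroup.card_le_of_le hBΦ))
  obtain ⟨e, he⟩ := IsPGroup.iff_card.1 hR
  obtain ⟨j, -, hj⟩ := (Nat.dvd_prime_pow hs.out).1 (he ▸ (frattini R).index_dvd_card)
  refine ⟨j, ?_, hj⟩
  rw [hj] at hΦ
  exact (Nat.pow_le_pow_iff_right hs.out.one_lt).1 hΦ

end Torus

/-- The automorphisms of an elementary abelian group. -/
theorem card_mulAut_elem {E : Type*} [CommGroup E] [Finite E] (hE : ∀ e : E, e ^ s = 1) {n : ℕ}
    (hn : Nat.card E = s ^ n) : Nat.card (MulAut E) = ∏ i : Fin n, (s ^ n - s ^ i.val) := by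
  letI : Module (ZMod s) (Additive E) := AddCommGroup.zmodModule (n := s) fun x => congrArg Additive.ofMul (hE x.toMul)
  haveI : Module.Finite (ZMod s) (Additive E) := Module.Finite.of_finite
  haveI : Module.Free (ZMod s) (Additive E) := Module.Free.of_divisionRing (ZMod s) (Additive E)
  have hfr : Module.finrank (ZMod s) (Additive E) = n := by
    have h := Nat.card_congr (Module.finBasis (ZMod s) (Additive E)).equivFun.toEquiv
    rw [Nat.card_congr Additive.toMul, hn, Nat.card_fun, Nat.card_zmod, Nat.card_fin] at h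
    exact (Nat.pow_right_injective hs.out.two_le h).symm
  have hGL := Matrix.card_GL_field (𝔽 := ZMod s) n
  rw [ZMod.card] at hGL
  rw [← hGL]
  refine Nat.card_congr ?_
  let b : Module.Basis (Fin n) (ZMod s) (Additive E) := Module.finBasisOfFinrankEq (ZMod s) (Additive E) hfr
  refine Equiv.trans ?_ (Units.mapEquiv (LinearMap.toMatrixAlgEquiv b).toMulEquiv).toEquiv
  refine Equiv.trans ?_ (LinearMap.GeneralLinearGroup.generalLinearEquiv (ZMod s) (Additive E)).symm.toEquiv
  exact
    { toFun := fun f => { (MulEquiv.toAdditive f) with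
        map_smul' := fun c x => ZMod.map_smul (MulEquiv.toAdditive f).toAddMonoidHom c x }
      invFun := fun g => MulEquiv.toAdditive.symm g.toAddEquiv
      left_inv := fun f => rfl
      right_inv := fun g => rfl }

/-- Powers of two elements whose commutator is central. -/
theorem pow_comm_central {M : Type*} [Group M] {x y z : M} (hz : ∀ m : M, Commute z m) (h : x * y = z * (y * x))
    (a b : ℕ) : x ^ a * y ^ b = z ^ (a * b) * (y ^ b * x ^ a) := by
  have hb : ∀ b : ℕ, x * y ^ b = z ^ b * (y ^ b * x) := by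
    intro b
    induction b with
    | zero => simp
    | succ b ih =>
      rw [pow_succ', ← mul_assoc, h, mul_assoc, mul_assoc, ih, ← mul_assoc y (z ^ b),
        ← ((hz y).pow_left b).eq, mul_assoc (z ^ b) y, ← mul_assoc y (y ^ b) x, ← pow_succ', ← mul_assoc,
        ← pow_succ']
  induction a with
  | zero => simp
  | succ a ih =>
    rw [pow_succ', mul_assoc, ih, ← mul_assoc, ← ((hz x).pow_left _).eq, mul_assoc, ← mul_assoc x, hb b,
      mul_assoc (z ^ b), ← mul_assoc (z ^ (a * b)), ← pow_add, mul_assoc (y ^ b), ← pow_succ']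
    rw [show a * b + b = (a + 1) * b by ring]

variable {H A : Type*} [Group H] [Group A] [Finite H] {π : H →* A}

/-- The Sylow subgroup of the kernel is central. -/
theorem central (hm : AltE6.MinCover π) [IsSimpleGroup A] {q : ℕ} [hq : Fact q.Prime] (hqs : q ≠ s)
    (hqd : q ∣ Nat.card A) (hGL : ∀ d ≤ 8, ¬ Nat.card A ∣ ∏ i : Fin d, (s ^ d - s ^ i.val))
    (hbound : ∀ R : Subgroup H, IsPGroup s R → ∃ j ≤ 8, (frattini R).index = s ^ j)
    {Q : Subgroup H} [Q.Normal] (hQ : IsPGroup s Q) : ∀ (h : H), ∀ x ∈ Q, h * x = x * h := by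
  haveI : Finite A := Finite.of_surjective π hm.surj
  obtain ⟨d, hd, hidx⟩ := hbound Q hQ
  haveI : Group.IsNilpotent Q := hQ.isNilpotent
  letI : CommGroup (Q ⧸ frattini Q) :=
    { (inferInstance : Group (Q ⧸ frattini Q)) with
      mul_comm := fun a b => by
        induction a using QuotientGroup.induction_on with | _ a => ?_
        induction b using QuotientGroup.induction_on with | _ b => ?_
        refine QuotientGroup.eq.2 (Cores.commutator_le_frattini ?_)
        rw [show (a * b)⁻¹ * (b * a) = ⁅b⁻¹, a⁻¹⁆ by rw [commutatorElement_def]; group, commutator_def]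
        exact Subgroup.commutator_mem_commutator (Subgroup.mem_top _) (Subgroup.mem_top _) }
  have hexp : ∀ e : Q ⧸ frattini Q, e ^ s = 1 := fun e => by
    induction e using QuotientGroup.induction_on with | _ e => ?_
    exact (QuotientGroup.eq_one_iff _).2 (Cores.pow_mem_frattini hQ e)
  have hcV := card_mulAut_elem hexp (n := d) (by rw [← hidx, Subgroup.index_eq_card])
  let c : H →* MulAut Q := MulAut.conjNormal
  let φ := RankTwo.quotientAut (frattini Q)
  have htriv : ∀ h, φ (c h) = 1 := by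
    by_contra hne
    have hker : (φ.comp c).ker ≤ π.ker := fun y hy => MonoidHom.mem_ker.2 <| by_contra fun hy' => hne fun h =>
      MonoidHom.mem_ker.1 ((hm.top_of_normal (φ.comp c).ker hy hy') ▸ Subgroup.mem_top h :
        h ∈ (φ.comp c).ker)
    refine hGL d hd ?_
    rw [← hcV, ← Subgroup.card_top (G := A), ← MonoidHom.range_eq_top.2 hm.surj, ← Subgroup.index_ker]
    refine (Subgroup.index_dvd_of_le hker).trans ?_
    rw [Subgroup.index_ker]
    exact (φ.comp c).range.card_subgroup_dvd_card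
  have hkey : ∀ e : ℕ, ∀ σ : MulAut Q, φ σ = 1 → σ ^ q ^ e = 1 → σ = 1 := by
    intro e
    induction e with
    | zero => intro σ _ h; rwa [pow_zero, pow_one] at h
    | succ e ih =>
      intro σ hσ h
      refine ih σ hσ (PAutPrime.eq_one_of_frattini hqs hQ _ (by rw [← pow_mul, ← pow_succ, h]) fun x => ?_)
      have h1 : φ (σ ^ q ^ e) = 1 := by rw [map_pow, hσ, one_pow]
      exact QuotientGroup.eq.1 (DFunLike.congr_fun h1 (x : Q ⧸ frattini Q)).symm
  have hcker : c.ker = ⊤ := by
    rw [eq_top_iff, ← hm.closure_top (q := q) hqd, Subgroup.closure_le]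
    rintro h ⟨e, he⟩
    exact MonoidHom.mem_ker.2 (hkey e _ (htriv h) (by rw [← map_pow, he, map_one]))
  intro h x hx
  have h1 : c h = 1 := MonoidHom.mem_ker.1 (hcker ▸ Subgroup.mem_top h)
  have h2 := congrArg Subtype.val (DFunLike.congr_fun h1 (⟨x, hx⟩ : Q))
  rw [MulAut.conjNormal_apply, MulAut.one_apply] at h2
  exact mul_inv_eq_iff_eq_mul.1 h2

/-- An elementary abelian Sylow subgroup of the image lifts with its automizer. -/
theorem exists_hom_lift (hm : AltE6.MinCover π) [hA : IsSimpleGroup A] (hnc : ¬ ∀ a b : A, a * b = b * a)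
    {q : ℕ} [hq : Fact q.Prime] (hqs : q ≠ s)
    (hqd : q ∣ Nat.card A) (hGL : ∀ d ≤ 8, ¬ Nat.card A ∣ ∏ i : Fin d, (s ^ d - s ^ i.val))
    (hbound : ∀ R : Subgroup H, IsPGroup s R → ∃ j ≤ 8, (frattini R).index = s ^ j)
    {k : ℕ} (T : Multiplicative (Fin k → ZMod s) →* A) (hT : Function.Injective T)
    (hsyl : ¬ s ^ (k + 1) ∣ Nat.card A) (a : A) (α : Fin k → ℕ)
    (ha : ∀ i, a * T (Multiplicative.ofAdd (Pi.single i 1)) * a⁻¹ = T (Multiplicative.ofAdd (Pi.single i 1)) ^ α i)
    (hα : ∀ i j, i ≠ j → α i * α j % s ≠ 1) :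
    ∃ ε : Multiplicative (Fin k → ZMod s) →* H, Function.Injective ε ∧
      ∀ (b : A) (f : (Fin k → ZMod s) → Fin k → ZMod s),
        (∀ v, b * T (Multiplicative.ofAdd v) * b⁻¹ = T (Multiplicative.ofAdd (f v))) →
          ∃ g : H, ∀ v, g * ε (Multiplicative.ofAdd v) * g⁻¹ = ε (Multiplicative.ofAdd (f v)) := by
  haveI : Finite A := Finite.of_surjective π hm.surj
  haveI : NeZero s := ⟨hs.out.ne_zero⟩
  set E := T.range with hE
  have hcardE : Nat.card E = s ^ k := by
    rw [hE, ← Nat.card_congr (MonoidHom.ofInjective hT).toEquiv, Nat.card_congr Multiplicative.toAdd, Nat.card_fun,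
      Nat.card_zmod, Nat.card_fin]
  have hEp : IsPGroup s E := IsPGroup.of_card hcardE
  obtain ⟨Q, hQn, hQp, hQk, hQmax⟩ := hm.exists_kerSylow s
  haveI := hQn
  have hcent := central hm hqs hqd hGL hbound hQp
  obtain ⟨X, -, hQX, hXp, hXmap⟩ := AltE6.exists_over π hQp hQk le_top hEp
    (by rw [Subgroup.map_top_of_surjective π hm.surj]; exact le_top : E ≤ (⊤ : Subgroup H).map π)
  have hker : ∀ t ∈ X, π t = 1 → t ∈ Q := fun t ht h1 =>
    hQmax (X ⊓ π.ker) (hXp.to_le inf_le_left) inf_le_right ⟨ht, h1⟩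
  have hlift : ∀ b : A, (∀ e ∈ E, b * e * b⁻¹ ∈ E) → ∃ g, π g = b ∧ ∀ t ∈ X, g * t * g⁻¹ ∈ X := fun b hb => by
    obtain ⟨g, -, hg, hgX⟩ := AltE6.exists_norm_lift π hQmax hQX le_top hXp
      (by rw [Subgroup.map_top_of_surjective π hm.surj]; exact Subgroup.mem_top b)
      (by rw [hXmap]; exact hb)
    exact ⟨g, hg, hgX⟩
  -- generators of the image
  set e : Fin k → Multiplicative (Fin k → ZMod s) := fun i => Multiplicative.ofAdd (Pi.single i 1) with he
  have hgen : ∀ M : Subgroup A, (∀ i, T (e i) ∈ M) → E ≤ M := by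
    rintro M hM _ ⟨w, rfl⟩
    have hw : w = ∏ i, e i ^ (w.toAdd i).val := by
      apply Multiplicative.toAdd.injective
      simp only [he, toAdd_prod, toAdd_pow, toAdd_ofAdd]
      funext j
      simp only [Finset.sum_apply, nsmul_eq_mul, Pi.mul_apply, Pi.natCast_apply]
      rw [Finset.sum_eq_single j (fun i _ h => by rw [Pi.single_eq_of_ne h.symm, mul_zero]) (by simp),
        Pi.single_eq_same, mul_one, ZMod.natCast_zmod_val]
    have h1 : w ∈ M.comap T := by
      rw [hw]
      exact Subgroup.prod_mem _ fun i _ => pow_mem (show e i ∈ M.comap T from hM i) _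
    exact h1
  have hyex : ∀ i, ∃ y ∈ X, π y = T (e i) := fun i => hXmap.ge ⟨e i, rfl⟩
  choose y hyX hy using hyex
  have haE : ∀ e' ∈ E, a * e' * a⁻¹ ∈ E := fun e' he' => by
    refine hgen (E.comap (MulAut.conj a).toMonoidHom) (fun i => ?_) he'
    show a * T (e i) * a⁻¹ ∈ E
    rw [ha]
    exact pow_mem (show T (e i) ∈ E from ⟨_, rfl⟩) _
  obtain ⟨g, hg, hgX⟩ := hlift a haE
  -- the lifts commute
  have hcomm : ∀ i j, y i * y j = y j * y i := by
    intro i j
    rcases eq_or_ne i j with rfl | hij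
    · rfl
    set z := y i * y j * (y i)⁻¹ * (y j)⁻¹ with hz
    have hπz : π z = 1 := by
      have hc : Commute (T (e i)) (T (e j)) := (Commute.all (e i) (e j)).map T
      rw [hz, map_mul, map_mul, map_mul, map_inv, map_inv, hy, hy, hc.eq, mul_inv_cancel_right, mul_inv_cancel]
    have hzQ : z ∈ Q := hker _ (mul_mem (mul_mem (mul_mem (hyX i) (hyX j)) (inv_mem (hyX i))) (inv_mem (hyX j))) hπz
    have hzc : ∀ m : H, Commute z m := fun m => (hcent m z hzQ).symm
    have hrel : y i * y j = z * (y j * y i) := by rw [hz]; group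
    have hgy : ∀ l, ∃ r ∈ Q, g * y l * g⁻¹ = y l ^ α l * r := fun l => by
      refine ⟨(y l ^ α l)⁻¹ * (g * y l * g⁻¹), hker _ (mul_mem (inv_mem (pow_mem (hyX l) _)) (hgX _ (hyX l))) ?_,
        (mul_inv_cancel_left _ _).symm⟩
      rw [map_mul, map_inv, map_pow, map_mul, map_mul, map_inv, hy, hg, ha, inv_mul_cancel]
    obtain ⟨r, hr, er⟩ := hgy i
    obtain ⟨r', hr', er'⟩ := hgy j
    have hzα : z = z ^ (α i * α j) := by
      have h1 : g * z * g⁻¹ = z := by rw [hcent g z hzQ, mul_inv_cancel_right]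
      have h2 : g * z * g⁻¹ = (g * y i * g⁻¹) * (g * y j * g⁻¹) * (g * y i * g⁻¹)⁻¹ * (g * y j * g⁻¹)⁻¹ := by
        rw [hz]; group
      rw [h1, er, er'] at h2
      have hc1 : ∀ m : H, Commute r m := fun m => (hcent m r hr).symm
      have hc2 : ∀ m : H, Commute r' m := fun m => (hcent m r' hr').symm
      have h3 : y i ^ α i * r * (y j ^ α j * r') * (y i ^ α i * r)⁻¹ * (y j ^ α j * r')⁻¹ =
          y i ^ α i * y j ^ α j * (y i ^ α i)⁻¹ * (y j ^ α j)⁻¹ := by
        rw [mul_assoc (y i ^ α i) r, (hc1 _).eq, mul_inv_rev, mul_inv_rev, ← (hc2 ((y j ^ α j))).eq]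
        calc _ = y i ^ α i * r' * y j ^ α j * (r * r⁻¹) * (y i ^ α i)⁻¹ * r'⁻¹ * (y j ^ α j)⁻¹ := by
              simp only [mul_assoc, ((hc2 _).inv_left).eq]
          _ = r' * (y i ^ α i * y j ^ α j * (y i ^ α i)⁻¹) * r'⁻¹ * (y j ^ α j)⁻¹ := by
              rw [mul_inv_cancel, mul_one, ← (hc2 (y i ^ α i)).eq]
              simp only [mul_assoc]
          _ = _ := by rw [(hc2 _).eq, mul_inv_cancel_right]
      rw [h3, pow_comm_central hzc hrel] at h2
      rwa [← mul_assoc, mul_inv_cancel_right, mul_inv_cancel_right] at h2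
    have hzs : z ^ s = 1 := by
      have h4 := pow_comm_central hzc hrel s 1
      have hq' : y i ^ s ∈ Q := hker _ (pow_mem (hyX i) _) (by
        have h0 : s • (Pi.single i (1 : ZMod s) : Fin k → ZMod s) = 0 := funext fun j => by
          rw [Pi.smul_apply, nsmul_eq_mul, ZMod.natCast_self, zero_mul, Pi.zero_apply]
        rw [map_pow, hy, ← map_pow]
        show T (Multiplicative.ofAdd (Pi.single i 1) ^ s) = 1
        rw [← ofAdd_nsmul, h0, ofAdd_zero, map_one])
      rw [pow_one, mul_one, hcent (y j) _ hq'] at h4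
      exact mul_eq_right.1 h4.symm
    have hz1 : z = 1 := by
      by_contra hz1
      have ho : orderOf z = s := orderOf_eq_prime hzs hz1
      have := pow_eq_pow_iff_modEq.1 ((pow_one z).trans hzα : z ^ 1 = z ^ (α i * α j))
      rw [ho, Nat.ModEq, Nat.one_mod_eq_one.2 hs.out.ne_one] at this
      exact hα i j hij this.symm
    rw [hrel, hz1, one_mul]
  -- X is abelian
  set U := Subgroup.closure (Set.range y ∪ (Q : Set H)) with hUdef
  have hUX : U ≤ X := by
    rw [hUdef, Subgroup.closure_le, Set.union_subset_iff]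
    exact ⟨by rintro _ ⟨i, rfl⟩; exact hyX i, hQX⟩
  have hUcomm : IsMulCommutative U := Subgroup.isMulCommutative_closure (by
    rintro x (⟨i, rfl⟩ | hx) x' (⟨j, rfl⟩ | hx')
    · exact hcomm i j
    · exact hcent _ _ hx'
    · exact (hcent _ _ hx).symm
    · exact hcent _ _ hx')
  have hXU : X ≤ U := fun t ht => by
    obtain ⟨u, hu, hut⟩ := hgen (U.map π) (fun i =>
      ⟨y i, Subgroup.subset_closure (Or.inl ⟨i, rfl⟩), hy i⟩) (hXmap.le ⟨t, ht, rfl⟩)
    have h1 : u⁻¹ * t ∈ Q := hker _ (mul_mem (inv_mem (hUX hu)) ht) (by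
      rw [map_mul, map_inv, hut, inv_mul_cancel])
    have h2 := mul_mem hu (Subgroup.subset_closure (Or.inr h1) : u⁻¹ * t ∈ U)
    rwa [mul_inv_cancel_left] at h2
  have hXab : ∀ x ∈ X, ∀ x' ∈ X, x * x' = x' * x := fun x hx x' hx' =>
    congrArg Subtype.val (hUcomm.is_comm.comm (⟨x, hXU hx⟩ : U) ⟨x', hXU hx'⟩)
  -- X is a Sylow subgroup
  let P : Sylow s H := ⟨X, hXp, fun {R} hR hXR => by
    refine AltE6.max_over_image π hQmax hQX hXR hR ?_
    rw [hXmap]
    have hER : E ≤ R.map π := hXmap ▸ Subgroup.map_mono hXR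
    refine le_of_eq (Subgroup.eq_of_le_of_card_ge hER ?_).symm
    obtain ⟨j, hj⟩ := IsPGroup.iff_card.1 (hR.map π)
    rw [hj, hcardE]
    refine Nat.pow_le_pow_right hs.out.pos ?_
    by_contra hjk
    exact hsyl ((pow_dvd_pow s (by omega : k + 1 ≤ j)).trans (hj ▸ (R.map π).card_subgroup_dvd_card))⟩
  -- the kernel part is trivial
  have hQbot : ∀ z ∈ Q, z = 1 := by
    intro z hz
    letI : CommGroup X :=
      { (inferInstance : Group X) with mul_comm := fun a b => Subtype.ext (hXab _ a.2 _ b.2) }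
    have hkey : ∀ (j : ℕ) (g₀ : H), g₀⁻¹ * z ^ j * g₀ ∈ X → g₀⁻¹ * z ^ j * g₀ = z ^ j := fun j g₀ _ => by
      rw [hcent g₀⁻¹ _ (pow_mem hz j), inv_mul_cancel_right]
    have h1 := hm.hom_comm_eq_one hA hnc (MonoidHom.transfer (MonoidHom.id X)) z
    rw [MonoidHom.transfer_eq_pow (MonoidHom.id X) z hkey] at h1
    have h2 : z ^ X.index = 1 := congrArg Subtype.val h1
    obtain ⟨j, hj⟩ := hQp ⟨z, hz⟩
    have h3 : z ^ s ^ j = 1 := congrArg Subtype.val hj
    have hcop : Nat.Coprime X.index (s ^ j) :=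
      Nat.Coprime.pow_right _ ((hs.out.coprime_iff_not_dvd.2 P.not_dvd_index).symm)
    have h4 := Nat.dvd_gcd (orderOf_dvd_of_pow_eq_one h2) (orderOf_dvd_of_pow_eq_one h3)
    rw [hcop] at h4
    exact orderOf_eq_one_iff.1 (Nat.dvd_one.1 h4)
  let πX : X →* A := π.comp X.subtype
  have hπX : Function.Injective πX := (injective_iff_map_eq_one _).2 fun t ht =>
    Subtype.ext (hQbot _ (hker t t.2 ht))
  have hrange : ∀ w, T w ∈ πX.range := fun w => by
    obtain ⟨t, ht, e'⟩ := hXmap.ge ⟨w, rfl⟩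
    exact ⟨⟨t, ht⟩, e'⟩
  let ε : Multiplicative (Fin k → ZMod s) →* H :=
    X.subtype.comp ((MonoidHom.ofInjective hπX).symm.toMonoidHom.comp (T.codRestrict πX.range hrange))
  have hπε : ∀ w, π (ε w) = T w := fun w =>
    congrArg Subtype.val ((MonoidHom.ofInjective hπX).apply_symm_apply ⟨T w, hrange w⟩)
  have hεX : ∀ w, ε w ∈ X := fun w => Subtype.coe_prop _
  refine ⟨ε, fun w w' h => hT (by rw [← hπε, ← hπε, h]), fun b f hb => ?_⟩
  obtain ⟨g', hg', hg'X⟩ := hlift b (by
    rintro _ ⟨w, rfl⟩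
    exact ⟨_, (hb w.toAdd).symm⟩)
  refine ⟨g', fun v => ?_⟩
  have h1 : πX ⟨_, hg'X _ (hεX (Multiplicative.ofAdd v))⟩ = πX ⟨_, hεX (Multiplicative.ofAdd (f v))⟩ := by
    show π (g' * ε (Multiplicative.ofAdd v) * g'⁻¹) = π (ε (Multiplicative.ofAdd (f v)))
    rw [map_mul, map_mul, map_inv, hπε, hπε, hg', hb]
  exact congrArg Subtype.val (hπX h1)

end Cfsg.Agent.AltE7
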