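import Cfsg.Agent.EqLemmas
import Cfsg.Agent.Lib.ToralSection.AltPerms

/-!
# Products of cycles of prime length and monomial permutations

* `tr`, `mo` : translations and monomial maps of `k` copies of `ZMod s`;
* `altHom`   : the translations inside the alternating group of degree `k * s`;
* `seven_data`, `five_data` : even monomial maps.
-/

set_option autoImplicit false
set_option maxRecDepth 100000
set_option maxHeartbeats 1000000

namespace Cfsg.Agent.AltE7

open Equiv

variable {k s : ℕ}

/-- A translation. -/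
def tr (v : Fin k → ZMod s) : Perm (Fin k × ZMod s) where
  toFun x := (x.1, x.2 + v x.1)
  invFun x := (x.1, x.2 - v x.1)
  left_inv x := by simp
  right_inv x := by simp

/-- A monomial map. -/
def mo (σ : Perm (Fin k)) (c : Fin k → (ZMod s)ˣ) : Perm (Fin k × ZMod s) where
  toFun x := (σ x.1, c x.1 * x.2)
  invFun x := (σ.symm x.1, (c (σ.symm x.1))⁻¹ * x.2)
  left_inv x := by simp [← mul_assoc]
  right_inv x := by simp [← mul_assoc]

/-- The action on translations. -/
def mv (σ : Perm (Fin k)) (c : Fin k → (ZMod s)ˣ) (v : Fin k → ZMod s) : Fin k → ZMod s :=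
  fun j => c (σ.symm j) * v (σ.symm j)

theorem tr_add (v w : Fin k → ZMod s) : tr (v + w) = tr v * tr w := by
  refine Equiv.ext fun x => ?_
  show (x.1, x.2 + (v x.1 + w x.1)) = (x.1, x.2 + w x.1 + v x.1)
  congr 1
  abel

theorem tr_zero : tr (0 : Fin k → ZMod s) = 1 := by
  refine Equiv.ext fun x => ?_
  show (x.1, x.2 + (0 : ZMod s)) = x
  rw [add_zero]

theorem tr_pow (v : Fin k → ZMod s) (n : ℕ) : tr v ^ n = tr (n • v) := by
  induction n with
  | zero => rw [pow_zero, zero_nsmul, tr_zero]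
  | succ n ih => rw [pow_succ, ih, succ_nsmul, tr_add]

theorem tr_injective : Function.Injective (tr (k := k) (s := s)) := fun v w h => funext fun i => by
  have e := congrArg Prod.snd (DFunLike.congr_fun h (i, 0))
  simpa [tr] using e

theorem mo_tr (σ : Perm (Fin k)) (c : Fin k → (ZMod s)ˣ) (v : Fin k → ZMod s) :
    mo σ c * tr v = tr (mv σ c v) * mo σ c := by
  refine Equiv.ext fun x => ?_
  show (σ x.1, (c x.1 : ZMod s) * (x.2 + v x.1)) =
    (σ x.1, (c x.1 : ZMod s) * x.2 + (c (σ.symm (σ x.1)) : ZMod s) * v (σ.symm (σ x.1)))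
  rw [Equiv.symm_apply_apply, mul_add]

theorem sign_tr [NeZero s] (hs : Odd s) (v : Fin k → ZMod s) : Perm.sign (tr v) = 1 := by
  have h : Perm.sign (tr v) ^ s = 1 := by
    rw [← map_pow, tr_pow, show s • v = 0 from funext fun i => by
      rw [Pi.smul_apply, nsmul_eq_mul, ZMod.natCast_self, zero_mul, Pi.zero_apply], tr_zero, map_one]
  rcases Int.units_eq_one_or (Perm.sign (tr v)) with e | e
  · exact e
  · rw [e, hs.neg_one_pow] at h
    exact absurd h (by decide)

/-- The points as natural numbers below `k * s`. -/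
noncomputable def pts (k s : ℕ) [NeZero s] : Fin k × ZMod s ≃ Fin (k * s) :=
  ((Equiv.refl _).prodCongr (ZMod.finEquiv s).toEquiv.symm).trans finProdFinEquiv

/-- Even permutations of the points. -/
noncomputable def toAlt [NeZero s] (g : Perm (Fin k × ZMod s)) (hg : Perm.sign g = 1) :
    alternatingGroup (Fin (k * s)) :=
  ⟨(pts k s).permCongr g, by rw [Perm.mem_alternatingGroup, Perm.sign_permCongr, hg]⟩

/-- The translations inside the alternating group. -/
noncomputable def altHom (k s : ℕ) [NeZero s] (hs : Odd s) :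
    Multiplicative (Fin k → ZMod s) →* alternatingGroup (Fin (k * s)) where
  toFun v := toAlt (tr v.toAdd) (sign_tr hs _)
  map_one' := Subtype.ext (by
    show (pts k s).permCongrHom (tr (0 : Fin k → ZMod s)) = 1
    rw [tr_zero, map_one])
  map_mul' v w := Subtype.ext (by
    show (pts k s).permCongrHom (tr (v.toAdd + w.toAdd)) =
      (pts k s).permCongrHom (tr v.toAdd) * (pts k s).permCongrHom (tr w.toAdd)
    rw [tr_add, map_mul])

theorem altHom_injective [NeZero s] (hs : Odd s) : Function.Injective (altHom k s hs) := fun v w h =>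
  Multiplicative.toAdd.injective (tr_injective ((pts k s).permCongr.injective (congrArg Subtype.val h)))

/-- Monomial maps act on the translations. -/
theorem altHom_conj [NeZero s] (hs : Odd s) {σ : Perm (Fin k)} {c : Fin k → (ZMod s)ˣ}
    (h : Perm.sign (mo σ c) = 1) (v : Fin k → ZMod s) :
    toAlt (mo σ c) h * altHom k s hs (Multiplicative.ofAdd v) * (toAlt (mo σ c) h)⁻¹ =
      altHom k s hs (Multiplicative.ofAdd (mv σ c v)) := by
  refine mul_inv_eq_iff_eq_mul.2 (Subtype.ext ?_)
  show (pts k s).permCongrHom (mo σ c) * (pts k s).permCongrHom (tr v) =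
    (pts k s).permCongrHom (tr (mv σ c v)) * (pts k s).permCongrHom (mo σ c)
  rw [← map_mul, ← map_mul, mo_tr]

/-- Multipliers for pairs of seven-cycles. -/
def mult7 (a b : Fin 6) : Fin 2 → (ZMod 7)ˣ :=
  ![ZMod.unitOfCoprime (a.val + 1) (by revert a; decide), ZMod.unitOfCoprime (b.val + 1) (by revert b; decide)]

/-- The even ones. -/
def ok7 (σ : Perm (Fin 2)) (a b : Fin 6) : Bool :=
  decide ((((a.val + 1) * (b.val + 1) : ℕ) : ZMod 7) ^ 3 = if σ = 1 then 1 else -1)

theorem sign_mult7 : ∀ σ : Perm (Fin 2), ∀ a b : Fin 6, ok7 σ a b = true → Perm.sign (mo σ (mult7 a b)) = 1 := by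
  decide +kernel

theorem three7 : ok7 1 2 2 = true ∧ ∀ v : Fin 2 → ZMod 7, mv 1 (mult7 2 2) v = (3 : ℕ) • v := by decide +kernel

theorem orbit7 : ∀ v : Fin 2 → ZMod 7, v ≠ 0 → ∃ σ : Perm (Fin 2), ∃ a b : Fin 6, ok7 σ a b = true ∧
    (mv σ (mult7 a b) v = ![1, 0] ∨ mv σ (mult7 a b) v = ![1, 1]) := by
  decide +kernel

/-- Multipliers for triples of five-cycles. -/
def mult5 (a b c : Fin 4) : Fin 3 → (ZMod 5)ˣ :=
  ![ZMod.unitOfCoprime (a.val + 1) (by revert a; decide), ZMod.unitOfCoprime (b.val + 1) (by revert b; decide),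
    ZMod.unitOfCoprime (c.val + 1) (by revert c; decide)]

/-- The even ones among those fixing or exchanging the first two blocks. -/
def ok5 (σ : Bool) (a b c : Fin 4) : Bool :=
  decide ((((a.val + 1) * (b.val + 1) * (c.val + 1) : ℕ) : ZMod 5) ^ 2 = if σ then -1 else 1)

/-- The exchange. -/
def sw (σ : Bool) : Perm (Fin 3) := if σ then Equiv.swap 0 1 else 1

theorem sign_mult5 : ∀ σ : Bool, ∀ a b c : Fin 4, ok5 σ a b c = true → Perm.sign (mo (sw σ) (mult5 a b c)) = 1 := by
  decide +kernel

theorem three5 : ∀ v : Fin 3 → ZMod 5, ∃ σ : Bool, ∃ a b c : Fin 4, ok5 σ a b c = true ∧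
    mv (sw σ) (mult5 a b c) v = (3 : ℕ) • v := by
  decide +kernel

theorem pair5 : ok5 false 2 2 0 = true ∧
    ∀ i : Fin 3, mv (sw false) (mult5 2 2 0) (Pi.single i 1) = (![3, 3, 1] i : ℕ) • Pi.single i 1 := by
  decide +kernel

theorem pair7 : ∀ i : Fin 2, mv 1 (mult7 2 2) (Pi.single i 1) = (![3, 3] i : ℕ) • Pi.single i 1 := by
  decide +kernel

end Cfsg.Agent.AltE7
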