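import Cfsg.Agent.Lib.AltE7.Weyl
import Cfsg.Agent.Lib.ChevOrder.Final
import Cfsg.Agent.Lib.Chev.All

/-!
# Elements of order five and seven of the torus of the Chevalley group of type E7

* `Setting`        : a finite field with a root of unity of order `p`;
* `rootsM_conj`    : conjugate elements have the same roots;
* `index_not_sq`   : the torus has index not divisible by `p²`;
* `rational_toral` : the centraliser of a rational element has its Sylow subgroup in the torus.
-/

set_option autoImplicit false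
set_option maxRecDepth 100000
set_option linter.style.haveILetI false

namespace Cfsg.Agent.AltE7

open Cfsg.Lie Cfsg.Lie.ChevalleyDatum Cfsg.Agent.Chev Cfsg.Agent.ChevBN Cfsg.Agent.ChevLang
  Cfsg.Agent.ToralSection
open Cfsg.Agent.ChevOrder (act torusHom chi)
open scoped Matrix

theorem good7 : Good chevE7 := Chev.good_of_mem (by simp)

/-- The group. -/
abbrev G7 (K : Type) [Field K] := ↥(chevE7.group K)

/-- The torus. -/
noncomputable def tau (K : Type) [Field K] : (Fin 7 → Kˣ) →* G7 K := torus good7 rootsE7 K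

/-- A prime five or seven, a finite field and a root of unity of that order. -/
structure Setting (p : ℕ) (K : Type) [Field K] where
  prime : p = 5 ∨ p = 7
  ζ : Kˣ
  order : orderOf ζ = p

variable {p : ℕ} [hp : Fact p.Prime] {K : Type} [Field K] (S : Setting p K)

theorem mem_normalizer_of_conj_mem {G : Type*} [Group G] [Finite G] {U : Subgroup G} {m : G}
    (h : ∀ t ∈ U, m * t * m⁻¹ ∈ U) : m ∈ Subgroup.normalizer (U : Set G) := by
  have hle : U.map (MulAut.conj m).toMonoidHom ≤ U := by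
    rintro _ ⟨t, ht, rfl⟩
    exact h t ht
  have he : U.map (MulAut.conj m).toMonoidHom = U := Subgroup.eq_of_le_of_card_ge hle
    (le_of_eq (Subgroup.card_map_of_injective (MulAut.conj m).injective).symm)
  rw [Subgroup.mem_normalizer_iff]
  refine fun t => ⟨h t, fun ht => ?_⟩
  have ht' : m * t * m⁻¹ ∈ U.map (MulAut.conj m).toMonoidHom := by rw [he]; exact ht
  obtain ⟨u, hu, e⟩ := ht'
  rwa [← (MulAut.conj m).injective e]

theorem nsmul_self_eq_zero {p : ℕ} (v : Fin 7 → ZMod p) : p • v = 0 := by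
  funext i
  rw [Pi.smul_apply, nsmul_eq_mul, ZMod.natCast_self, zero_mul, Pi.zero_apply]

namespace Setting

include S in
omit hp in
theorem ne_two : p ≠ 2 := by rcases S.prime with h | h <;> omega

/-- Powers of the root of unity, indexed modulo `p`. -/
def zp : Multiplicative (ZMod p) →* Kˣ where
  toFun x := S.ζ ^ x.toAdd.val
  map_one' := by simp
  map_mul' x y := by
    have h := pow_mod_orderOf S.ζ (x.toAdd.val + y.toAdd.val)
    rw [S.order] at h
    rw [toAdd_mul, ZMod.val_add, h, pow_add]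

theorem zp_injective : Function.Injective S.zp := by
  intro x y h
  have hx : x.toAdd.val < orderOf S.ζ := by rw [S.order]; exact ZMod.val_lt _
  have hy : y.toAdd.val < orderOf S.ζ := by rw [S.order]; exact ZMod.val_lt _
  exact ZMod.val_injective p (pow_injOn_Iio_orderOf hx hy h)

/-- The root of unity with exponent `a`. -/
def z (a : ZMod p) : Kˣ := S.zp (Multiplicative.ofAdd a)

theorem z_add (a b : ZMod p) : S.z (a + b) = S.z a * S.z b := map_mul S.zp _ _

theorem z_zero : S.z 0 = 1 := map_one S.zp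

theorem z_zsmul (n : ℤ) (a : ZMod p) : S.z a ^ n = S.z (n * a) := by
  rw [z, z, ← map_zpow, ← ofAdd_zsmul, zsmul_eq_mul]

theorem z_sum {ι : Type*} (s : Finset ι) (f : ι → ZMod p) : S.z (∑ i ∈ s, f i) = ∏ i ∈ s, S.z (f i) := by
  classical
  induction s using Finset.induction with
  | empty => simp [z_zero]
  | insert a s ha ih => rw [Finset.sum_insert ha, Finset.prod_insert ha, z_add, ih]

theorem z_injective : Function.Injective S.z := fun _ _ h => Multiplicative.ofAdd.injective (S.zp_injective h)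

theorem exists_z {x : Kˣ} (hx : x ^ p = 1) : ∃ a, S.z a = x := by
  haveI : NeZero p := ⟨hp.out.ne_zero⟩
  have hprim : IsPrimitiveRoot (S.ζ : K) p :=
    IsPrimitiveRoot.coe_units_iff.2 (by have h := IsPrimitiveRoot.orderOf S.ζ; rwa [S.order] at h)
  obtain ⟨i, hi, e⟩ := hprim.eq_pow_of_pow_eq_one (show (x : K) ^ p = 1 by rw [← Units.val_pow_eq_pow_val, hx]; rfl)
  refine ⟨(i : ZMod p), Units.ext ?_⟩
  show ((S.ζ ^ (i : ZMod p).val : Kˣ) : K) = x
  rw [ZMod.val_natCast_of_lt hi, Units.val_pow_eq_pow_val, e]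

/-- Coordinates of a torsion element. -/
def cz : Multiplicative (Fin 7 → ZMod p) →* (Fin 7 → Kˣ) where
  toFun v i := S.z (v.toAdd i)
  map_one' := funext fun i => S.z_zero
  map_mul' v w := funext fun i => S.z_add _ _

/-- A torsion element of the torus. -/
noncomputable def elt (v : Fin 7 → ZMod p) : G7 K := tau K (S.cz (Multiplicative.ofAdd v))

theorem elt_add (v w : Fin 7 → ZMod p) : S.elt (v + w) = S.elt v * S.elt w := by
  rw [elt, elt, elt, ofAdd_add, map_mul, map_mul]

theorem elt_zero : S.elt 0 = 1 := by rw [elt, ofAdd_zero, map_one, map_one]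

theorem elt_pow (v : Fin 7 → ZMod p) (n : ℕ) : S.elt v ^ n = S.elt (n • v) := by
  induction n with
  | zero => rw [pow_zero, zero_nsmul, elt_zero]
  | succ n ih => rw [pow_succ, ih, succ_nsmul, elt_add]

theorem elt_mem (v : Fin 7 → ZMod p) : S.elt v ∈ (tau K).range := ⟨_, rfl⟩

omit S hp in
theorem sq_eq_one_of_tau {c : Fin 7 → Kˣ} (h : tau K c = 1) (i : Fin 7) : c i ^ (2 : ℕ) = 1 := by
  have h' : torusHom chevE7 K c = 1 := congrArg Subtype.val h
  have h2 := exists_chi_one good7 rootsE7 h' i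
  rwa [← zpow_natCast]

theorem elt_injective : Function.Injective S.elt := by
  intro v w h
  have h1 : tau K (S.cz (Multiplicative.ofAdd (v - w))) = 1 := by
    have : S.elt (v - w) * S.elt w = S.elt w := by rw [← S.elt_add, sub_add_cancel, h]
    exact mul_eq_right.1 this
  rw [← sub_eq_zero]
  funext i
  have h2 := sq_eq_one_of_tau h1 i
  have h3 : S.z ((2 : ℤ) * (v - w) i) = S.z 0 := by rw [S.z_zero, ← S.z_zsmul, ← h2, ← zpow_natCast]; rfl
  have h4 := S.z_injective h3
  push_cast at h4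
  exact (mul_eq_zero.1 h4).resolve_left (two_ne_zero' S.ne_two)

/-- The elements of order dividing `p` of the torus. -/
theorem exists_elt {g : G7 K} (hg : g ∈ (tau K).range) (hgp : g ^ p = 1) : ∃ v, S.elt v = g := by
  obtain ⟨c, rfl⟩ := hg
  rw [← map_pow] at hgp
  have hc : ∀ i, (c i ^ 2) ^ p = 1 := fun i => by
    rw [← pow_mul, mul_comm, pow_mul]
    exact sq_eq_one_of_tau hgp i
  choose a ha using fun i => S.exists_z (hc i)
  have hodd : p % 2 = 1 := by rcases S.prime with h | h <;> omega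
  refine ⟨((p + 1) / 2) • fun i => a i, ?_⟩
  have e : S.cz (Multiplicative.ofAdd fun i => a i) = c ^ 2 := funext fun i => ha i
  rw [← S.elt_pow, elt, e, ← map_pow, ← pow_mul, show 2 * ((p + 1) / 2) = p + 1 by omega, pow_succ,
    map_mul, hgp, one_mul]

theorem chi_cz (v : Fin 7 → ZMod p) (r : ℕ) :
    chi (D := chevE7) (S.cz (Multiplicative.ofAdd v)) r = S.z (lab v r) := by
  rw [lab, S.z_sum]
  exact Finset.prod_congr rfl fun j _ => S.z_zsmul _ _

/-- The eigenvalues, as exponents. -/
def spec (v : Fin 7 → ZMod p) : Multiset (ZMod p) :=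
  (Finset.univ : Finset chevE7.Idx).val.map (Sum.elim (fun _ => 0) fun r => lab v r.val)

theorem coe_elt (v : Fin 7 → ZMod p) : ((S.elt v : GL chevE7.Idx K) : Matrix chevE7.Idx chevE7.Idx K) =
    Matrix.diagonal fun i => (S.z (Sum.elim (fun _ => 0) (fun r => lab v r.val) i) : K) := by
  refine (ChevOrder.coe_torusHom _).trans (congrArg Matrix.diagonal ?_)
  funext i
  rcases i with i | r
  · rw [Sum.elim_inl, Sum.elim_inl, S.z_zero, Units.val_one]
  · rw [Sum.elim_inr, Sum.elim_inr, S.chi_cz]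

theorem spec_conj {v w : Fin 7 → ZMod p} {g : G7 K} (h : g * S.elt v * g⁻¹ = S.elt w) : spec w = spec v := by
  classical
  have h1 : ((g : GL chevE7.Idx K) : Matrix chevE7.Idx chevE7.Idx K) *
      Matrix.diagonal (fun i => (S.z (Sum.elim (fun _ => 0) (fun r => lab v r.val) i) : K)) *
      ((g : GL chevE7.Idx K)⁻¹ : GL chevE7.Idx K).val =
      Matrix.diagonal (fun i => (S.z (Sum.elim (fun _ => 0) (fun r => lab w r.val) i) : K)) := by
    rw [← S.coe_elt, ← S.coe_elt, ← h]
    rfl
  have h2 := congrArg Matrix.charpoly h1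
  rw [Matrix.coe_units_inv, Matrix.charpoly_units_conj, Matrix.charpoly_diagonal, Matrix.charpoly_diagonal] at h2
  have gen : ∀ f : chevE7.Idx → K,
      (∏ i, (Polynomial.X - Polynomial.C (f i))).roots = Finset.univ.val.map f := fun f => by
    rw [Finset.prod_eq_multiset_prod]
    have := Polynomial.roots_multiset_prod_X_sub_C (Finset.univ.val.map f)
    rwa [Multiset.map_map] at this
  have h3 := congrArg Polynomial.roots h2
  rw [gen, gen] at h3
  refine (Multiset.map_injective (f := fun a => (S.z a : K)) (Units.val_injective.comp S.z_injective) ?_).symm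
  simp only [spec, Multiset.map_map]
  exact h3

omit S in
theorem rootsM_eq_spec (v : Fin 7 → ZMod p) :
    rootsM (coordsM v) = 0 ::ₘ (spec v).map fun a => 2 * a := by
  rw [rootsM_aOf]
  have e : (spec v).map (fun a => 2 * a) =
      Multiset.replicate 7 0 + (Multiset.range 126).map fun r => 2 * lab v r := by
    show ((Finset.univ : Finset (Fin 7 ⊕ Fin 126)).val.map
      (Sum.elim (fun _ : Fin 7 => (0 : ZMod p)) fun r : Fin 126 => lab v r.val)).map _ = _
    rw [← Finset.univ_disjSum_univ, Finset.val_disjSum, Multiset.disjSum, Multiset.map_add, Multiset.map_add]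
    simp only [Multiset.map_map, Function.comp_def, Sum.elim_inl, Sum.elim_inr, mul_zero, Multiset.map_const']
    congr 1
    · simp
  rw [e, ← Multiset.cons_add, ← Multiset.replicate_succ]

theorem rootsM_conj {v w : Fin 7 → ZMod p} {g : G7 K} (h : g * S.elt v * g⁻¹ = S.elt w) :
    rootsM (coordsM w) = rootsM (coordsM v) := by
  rw [rootsM_eq_spec, rootsM_eq_spec, S.spec_conj h]

/-- A rational element. -/
def Rat (v : Fin 7 → ZMod p) : Prop := ∃ g : G7 K, g * S.elt v * g⁻¹ = S.elt ((3 : ℕ) • v)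

theorem Rat.uniform {v : Fin 7 → ZMod p} (hv : S.Rat v) : Uniform p (coordsM v) := by
  obtain ⟨g, hg⟩ := hv
  have e := S.rootsM_conj hg
  have e1 : coordsM ((3 : ℕ) • v) = (coordsM v).map (AddMonoidHom.mulLeft (3 : ZMod p)) := by
    rw [coordsM, coordsM, Multiset.map_map]
    refine Multiset.map_congr rfl fun i _ => ?_
    rw [map_nsmul, Pi.smul_apply, nsmul_eq_mul]
    rfl
  rw [e1, rootsM_map] at e
  intro j
  conv_lhs => rw [← e]
  refine Multiset.count_map_eq_count' _ _ (fun a b h => mul_left_cancel₀ ?_ h) j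
  have h3 : ∀ q : ℕ, q = 5 ∨ q = 7 → (3 : ZMod q) ≠ 0 := by rintro q (rfl | rfl) <;> decide
  exact h3 p S.prime

/-- The word acts on the torsion. -/
theorem word_conj [Finite K] : ∃ n : G7 K, (∀ c, n * tau K c * n⁻¹ = tau K (act (wordMat p) c)) ∧
    ∀ v, n * S.elt v * n⁻¹ = S.elt (act7 p v) := by
  set R := chevRGD good7 rootsE7 K
  have hn : R.nw (wordOf p) ∈ chevE7.group K := by
    rw [← chev_G good7 rootsE7]
    exact R.N_le_G (R.nw_mem_N _)
  have h1 : ∀ c, (⟨_, hn⟩ : G7 K) * tau K c * (⟨_, hn⟩ : G7 K)⁻¹ = tau K (act (wordMat p) c) := fun c => by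
    refine Subtype.ext (nw_conj_torusHom good7 rootsE7 (wordOf p) (wordMat p) (fun i r hr => ?_) c)
    rw [← colV_spec good7 rootsE7 (wordOf p) i hr]
    refine Finset.sum_congr rfl fun j _ => congrArg (· * _) ?_
    have hcol : (colsOf chevE7 (wordOf p)).getD i.val [] = colV chevE7 (wordOf p) i.val := by
      rw [colsOf, List.getD_eq_getElem _ _ (by simp), List.getElem_map, List.getElem_range]
    exact congrArg (fun L : List ℤ => L.getD j.val 0) hcol
  refine ⟨⟨_, hn⟩, h1, fun v => ?_⟩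
  rw [elt, h1]
  refine congrArg (tau K) (funext fun j => ?_)
  rw [ChevOrder.act_apply]
  show ∏ i, S.z (v i) ^ wordMat p j i = S.z (∑ i, ((wordMat p j i : ℤ) : ZMod p) * v i)
  rw [S.z_sum]
  exact Finset.prod_congr rfl fun i _ => S.z_zsmul _ _

omit S in
/-- The torus has index not divisible by the square of `p`. -/
theorem index_not_sq [Fintype K] (hp57 : p = 5 ∨ p = 7) (hdvd : p ∣ Fintype.card K - 1) :
    ¬ p ^ 2 ∣ (tau K).range.index := by
  set q := Fintype.card K with hq
  have hq1 : 2 ≤ q := hq ▸ Fintype.one_lt_card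
  have hT : Nat.gcd 2 (q - 1) * Nat.card (tau K).range = (q - 1) ^ 7 := by
    have hinj := Nat.card_congr ((tau K).range.equivMapOfInjective (chevE7.group K).subtype
      (chevE7.group K).subtype_injective).toEquiv
    rw [hinj, MonoidHom.map_range, show (chevE7.group K).subtype.comp (tau K) =
      ChevOrder.torusHom chevE7 K from MonoidHom.ext fun _ => rfl]
    erw [ChevOrder.torusHom_range good7]
    have h := ChevOrder.card_diagonal (F := K) good7 ChevBN.rootsE7 ChevOrder.torus_E7
    rw [← hq] at h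
    have h1 : (∏ i : Fin chevE7.rank, (q - 1).gcd (([1, 1, 1, 1, 1, 1, 2] : List ℕ).getD i.val 0)) =
        Nat.gcd 2 (q - 1) := by
      show (∏ i : Fin 7, (q - 1).gcd (([1, 1, 1, 1, 1, 1, 2] : List ℕ).getD i.val 0)) = _
      simp [Fin.prod_univ_seven, Nat.gcd_comm]
    rw [h1] at h
    exact h
  have hG := ChevOrder.card_E7 (F := K) (q := q) hq.symm good7
  rw [← (tau K).range.card_mul_index, ← mul_assoc, hT] at hG
  have hgeom : ∀ e, q ^ e - 1 = (q - 1) * ∑ i ∈ Finset.range e, q ^ i := fun e => by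
    have h := geom_sum_mul_add (q - 1) e
    rw [Nat.sub_add_cancel (by omega : 1 ≤ q)] at h
    rw [← h, Nat.add_sub_cancel, mul_comm]
  rw [hgeom 2, hgeom 6, hgeom 8, hgeom 10, hgeom 12, hgeom 14, hgeom 18] at hG
  set σ := fun e => ∑ i ∈ Finset.range e, q ^ i with hσ
  have e : (tau K).range.index = q ^ 63 * (σ 2 * σ 6 * σ 8 * σ 10 * σ 12 * σ 14 * σ 18) :=
    mul_left_cancel₀ (pow_ne_zero 7 (by omega : q - 1 ≠ 0)) (hG.trans (by ring))
  -- modulo `p ^ 2`
  obtain ⟨k, hk⟩ := hdvd
  have hqk : q = p * k + 1 := by omega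
  have hmod : ∀ e, ((σ e : ℕ) : ZMod (p ^ 2)) = e + (p : ZMod (p ^ 2)) * k * (e * (e - 1) / 2 : ℕ) := by
    intro e
    have hp2 : ((p : ZMod (p ^ 2))) * p = 0 := by
      rw [← pow_two, ← Nat.cast_pow, ZMod.natCast_self]
    have hpow : ∀ i : ℕ, (q : ZMod (p ^ 2)) ^ i = 1 + i * ((p : ZMod (p ^ 2)) * k) := by
      intro i
      induction i with
      | zero => simp
      | succ i ih =>
        rw [pow_succ (q : ZMod (p ^ 2)) i, ih, hqk]
        push_cast
        linear_combination ((i : ZMod (p ^ 2)) * (k : ZMod (p ^ 2)) * k) * hp2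
    simp only [hσ, Nat.cast_sum, Nat.cast_pow]
    rw [Finset.sum_congr rfl fun i _ => hpow i, Finset.sum_add_distrib, Finset.sum_const,
      Finset.card_range, nsmul_one, ← Finset.sum_mul, ← Nat.cast_sum, Finset.sum_range_id]
    ring
  intro hdiv
  have h0 : (((tau K).range.index : ℕ) : ZMod (p ^ 2)) = 0 := (ZMod.natCast_eq_zero_iff _ _).2 hdiv
  rw [e, Nat.cast_mul, Nat.cast_pow, hqk] at h0
  push_cast at h0
  rw [hmod, hmod, hmod, hmod, hmod, hmod, hmod] at h0
  rcases hp57 with rfl | rfl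
  · revert h0
    generalize ((k : ℕ) : ZMod (5 ^ 2)) = x
    revert x
    decide +kernel
  · revert h0
    generalize ((k : ℕ) : ZMod (7 ^ 2)) = x
    revert x
    decide +kernel

/-- The centraliser of a rational element has its Sylow subgroup inside the torus. -/
theorem rational_toral [Fintype K] {v : Fin 7 → ZMod p} (hv : v ≠ 0) (hrat : S.Rat v) :
    ¬ p ∣ (tau K).range.relIndex (Subgroup.centralizer {S.elt v}) := by
  haveI : NeZero p := ⟨hp.out.ne_zero⟩
  classical
  intro hdiv
  have hdvd : p ∣ Fintype.card K - 1 := by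
    rw [← Fintype.card_units, ← S.order]
    exact orderOf_dvd_card
  set T := (tau K).range with hT
  have hab : ∀ a ∈ T, ∀ b ∈ T, a * b = b * a := by
    rintro _ ⟨a, rfl⟩ _ ⟨b, rfl⟩
    rw [← map_mul, ← map_mul, mul_comm]
  set X := Subgroup.centralizer ({S.elt v} : Set (G7 K)) with hX
  have hTX : T ≤ X := fun t ht => by
    rw [hX, Subgroup.mem_centralizer_singleton_iff]
    exact hab _ ht _ (S.elt_mem v)
  -- the torsion of the torus
  obtain ⟨Pt⟩ : Nonempty (Sylow p T) := inferInstance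
  set P₀ := (Pt : Subgroup T).map T.subtype with hP₀
  have hP₀T : P₀ ≤ T := Subgroup.map_subtype_le _
  have hmemP₀ : ∀ t ∈ T, ∀ k : ℕ, t ^ p ^ k = 1 → t ∈ P₀ := by
    intro t ht k hk
    haveI : IsMulCommutative T := ⟨⟨fun a b => Subtype.ext (hab _ a.2 _ b.2)⟩⟩
    have hz : IsPGroup p (Subgroup.zpowers (⟨t, ht⟩ : T)) := by
      rintro ⟨_, i, rfl⟩
      refine ⟨k, Subtype.ext (Subtype.ext ?_)⟩
      show (t ^ i) ^ p ^ k = 1
      rw [← zpow_natCast, ← zpow_mul, mul_comm, zpow_mul, zpow_natCast, hk, one_zpow]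
    exact ⟨_, hz.le_sylow_of_normal Pt (Subgroup.mem_zpowers _), rfl⟩
  set a := (Nat.card T).factorization p with ha
  have hcardP₀ : Nat.card P₀ = p ^ a := by
    rw [hP₀, Subgroup.card_map_of_injective T.subtype_injective, Sylow.card_eq_multiplicity]
  have hne : ∀ n : ℕ, n ≠ 0 → ¬ p ^ 2 ∣ n → n.factorization p ≤ 1 := fun n hn h => by
    by_contra h2
    exact h ((hp.out.pow_dvd_iff_le_factorization hn).2 (by omega))
  have hGle : (Nat.card (G7 K)).factorization p ≤ a + 1 := by
    rw [← T.card_mul_index, Nat.factorization_mul Nat.card_pos.ne' Subgroup.index_ne_zero_of_finite,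
      Finsupp.add_apply]
    exact Nat.add_le_add_left (hne _ Subgroup.index_ne_zero_of_finite (index_not_sq S.prime hdvd)) _
  have hXge : a + 1 ≤ (Nat.card X).factorization p := by
    have e := (T.subgroupOf X).card_mul_index
    rw [Nat.card_congr (Subgroup.subgroupOfEquivOfLe hTX).toEquiv] at e
    rw [← e, Nat.factorization_mul Nat.card_pos.ne' Subgroup.index_ne_zero_of_finite, Finsupp.add_apply, ← ha]
    exact Nat.add_le_add_left
      ((hp.out.pow_dvd_iff_le_factorization Subgroup.index_ne_zero_of_finite).1 (by rwa [pow_one])) _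
  have hXG : (Nat.card X).factorization p ≤ (Nat.card (G7 K)).factorization p :=
    (Nat.factorization_le_iff_dvd Nat.card_pos.ne' Nat.card_pos.ne').2 X.card_subgroup_dvd_card p
  have hfull : (Nat.card (G7 K)).factorization p = a + 1 := by omega
  -- an element inducing the cycle
  obtain ⟨n, hnc, hnv⟩ := S.word_conj
  obtain ⟨b, j, hpj, hord⟩ := Nat.exists_eq_pow_mul_and_not_dvd (orderOf_pos n).ne' p hp.out.ne_one
  set m := n ^ j with hm
  have hmp : m ^ p ^ b = 1 := by rw [hm, ← pow_mul, mul_comm, ← hord, pow_orderOf_eq_one]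
  have hiter : ∀ i : ℕ, ∀ w, n ^ i * S.elt w * (n ^ i)⁻¹ = S.elt ((act7 p)^[i] w) := by
    intro i
    induction i with
    | zero => intro w; simp
    | succ i ih =>
      intro w
      rw [Function.iterate_succ_apply', ← hnv, ← ih, pow_succ']
      group
  have hfix : ∀ w, (act7 p)^[j] w = w → act7 p w = w := fun w hw => by
    have h1 : Function.IsPeriodicPt (act7 p) (j.gcd p) w :=
      Function.IsPeriodicPt.gcd hw (act7_iterate S.prime w)
    rw [((hp.out.coprime_iff_not_dvd.2 hpj).symm : Nat.gcd j p = 1)] at h1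
    exact h1
  have hmT : ∀ t ∈ P₀, m * t * m⁻¹ ∈ P₀ := by
    intro t ht
    obtain ⟨k, hk⟩ := Pt.isPGroup'.map T.subtype ⟨t, ht⟩
    refine hmemP₀ _ ?_ k ?_
    · have hnT : ∀ i : ℕ, ∀ u ∈ T, n ^ i * u * (n ^ i)⁻¹ ∈ T := by
        intro i
        induction i with
        | zero => intro u hu; simpa using hu
        | succ i ih =>
          intro u hu
          rw [show n ^ (i + 1) * u * (n ^ (i + 1))⁻¹ = n ^ i * (n * u * n⁻¹) * (n ^ i)⁻¹ by rw [pow_succ]; group]
          refine ih _ ?_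
          obtain ⟨c, rfl⟩ := hu
          rw [hnc]
          exact ⟨_, rfl⟩
      exact hnT j t (hP₀T ht)
    · have : t ^ p ^ k = 1 := congrArg Subtype.val hk
      rw [conj_pow, this, mul_one, mul_inv_cancel]
  have hmz : IsPGroup p (Subgroup.zpowers m) := by
    rintro ⟨_, i, rfl⟩
    refine ⟨b, Subtype.ext ?_⟩
    show (m ^ i) ^ p ^ b = 1
    rw [← zpow_natCast, ← zpow_mul, mul_comm, zpow_mul, zpow_natCast, hmp, one_zpow]
  have hmN : Subgroup.zpowers m ≤ Subgroup.normalizer (P₀ : Set (G7 K)) := by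
    rw [Subgroup.zpowers_le]
    exact mem_normalizer_of_conj_mem hmT
  set S₀ := Subgroup.zpowers m ⊔ P₀ with hS₀
  have hS₀p : IsPGroup p S₀ := hmz.to_sup_of_normal_right' (Pt.isPGroup'.map _) hmN
  have hmnc : ¬ (∀ t ∈ P₀, m * t = t * m) := by
    intro h
    have hw : S.elt (Pi.single 3 1) ∈ P₀ := hmemP₀ _ (S.elt_mem _) 1 (by
      rw [pow_one, S.elt_pow, nsmul_self_eq_zero, S.elt_zero])
    have h2 := hiter j (Pi.single 3 1)
    rw [← hm, h _ hw, mul_inv_cancel_right] at h2
    exact act7_moves S.prime (hfix _ (S.elt_injective h2.symm))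
  have hS₀card : Nat.card S₀ = p ^ (a + 1) := by
    obtain ⟨e, he⟩ := IsPGroup.iff_card.1 hS₀p
    have h1 : p ^ e ∣ Nat.card (G7 K) := he ▸ S₀.card_subgroup_dvd_card
    rw [hp.out.pow_dvd_iff_le_factorization Nat.card_pos.ne', hfull] at h1
    have h2 : P₀ < S₀ := lt_of_le_of_ne le_sup_right fun e' => hmnc fun t ht => by
      have hm' : m ∈ P₀ := e' ▸ Subgroup.mem_sup_left (Subgroup.mem_zpowers m)
      exact hab _ (hP₀T hm') _ (hP₀T ht)
    have h3 : Nat.card P₀ < Nat.card S₀ :=
      lt_of_le_of_ne (Subgroup.card_le_of_le h2.le) fun h4 => h2.ne (Subgroup.eq_of_le_of_card_ge h2.le h4.ge)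
    rw [hcardP₀, he] at h3
    have h5 := (Nat.pow_lt_pow_iff_right hp.out.one_lt).1 h3
    rw [he, show e = a + 1 by omega]
  -- conjugate the element into the centre
  obtain ⟨Q⟩ : Nonempty (Sylow p X) := inferInstance
  have hQcard : Nat.card ((Q : Subgroup X).map X.subtype) = p ^ (Nat.card (G7 K)).factorization p := by
    rw [Subgroup.card_map_of_injective X.subtype_injective, Sylow.card_eq_multiplicity]
    congr 1
    omega
  have hS₀card' : Nat.card S₀ = p ^ (Nat.card (G7 K)).factorization p := by rw [hS₀card, hfull]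
  obtain ⟨c, hc⟩ := MulAction.exists_smul_eq (G7 K) (Sylow.ofCard _ hQcard) (Sylow.ofCard _ hS₀card')
  have hmap : ((Q : Subgroup X).map X.subtype).map (MulAut.conj c).toMonoidHom = S₀ :=
    congrArg (fun P : Sylow p (G7 K) => (P : Subgroup (G7 K))) hc
  set s := c * S.elt v * c⁻¹ with hs
  have hsc : ∀ y ∈ S₀, y * s = s * y := by
    intro y hy
    rw [← hmap] at hy
    obtain ⟨_, ⟨q, hq, rfl⟩, rfl⟩ := hy
    show c * (q : G7 K) * c⁻¹ * (c * S.elt v * c⁻¹) = c * S.elt v * c⁻¹ * (c * (q : G7 K) * c⁻¹)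
    have hq' := Subgroup.mem_centralizer_singleton_iff.1 q.2
    rw [show c * (q : G7 K) * c⁻¹ * (c * S.elt v * c⁻¹) = c * ((q : G7 K) * S.elt v) * c⁻¹ by group, hq']
    group
  have hsp : s ^ p = 1 := by
    rw [hs, conj_pow, S.elt_pow, nsmul_self_eq_zero, S.elt_zero, mul_one, mul_inv_cancel]
  have hsP : s ∈ P₀ := by
    have hzs : IsPGroup p (Subgroup.zpowers s) := by
      rintro ⟨_, i, rfl⟩
      refine ⟨1, Subtype.ext ?_⟩
      show (s ^ i) ^ p ^ 1 = 1
      rw [pow_one, ← zpow_natCast, ← zpow_mul, mul_comm, zpow_mul, zpow_natCast, hsp, one_zpow]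
    have hsN : ∀ (U : Subgroup (G7 K)), (∀ y ∈ U, y * s = s * y) →
        Subgroup.zpowers s ≤ Subgroup.normalizer (U : Set (G7 K)) := fun U hU => by
      rw [Subgroup.zpowers_le]
      refine mem_normalizer_of_conj_mem fun y hy => ?_
      rw [← hU y hy, mul_inv_cancel_right]
      exact hy
    have hsup : IsPGroup p ↥(Subgroup.zpowers s ⊔ S₀) := hzs.to_sup_of_normal_right' hS₀p (hsN _ hsc)
    have hsS : s ∈ S₀ := by
      have := (Sylow.ofCard _ hS₀card').3 hsup le_sup_right
      have hh : s ∈ Subgroup.zpowers s ⊔ S₀ := Subgroup.mem_sup_left (Subgroup.mem_zpowers s)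
      rw [this] at hh
      exact hh
    by_contra hsn
    have hle : Subgroup.zpowers s ⊔ P₀ ≤ S₀ := sup_le (Subgroup.zpowers_le.2 hsS) le_sup_right
    have hlt : P₀ < Subgroup.zpowers s ⊔ P₀ :=
      lt_of_le_of_ne le_sup_right fun e => hsn (e ▸ Subgroup.mem_sup_left (Subgroup.mem_zpowers s))
    obtain ⟨e, he⟩ := IsPGroup.iff_card.1 (hS₀p.to_le hle)
    have h3 : Nat.card P₀ < Nat.card ↥(Subgroup.zpowers s ⊔ P₀) :=
      lt_of_le_of_ne (Subgroup.card_le_of_le hlt.le) fun h4 =>
        hlt.ne (Subgroup.eq_of_le_of_card_ge hlt.le h4.ge)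
    rw [hcardP₀, he] at h3
    have h5 := (Nat.pow_lt_pow_iff_right hp.out.one_lt).1 h3
    have heq : Subgroup.zpowers s ⊔ P₀ = S₀ := Subgroup.eq_of_le_of_card_ge hle (by
      rw [hS₀card, he]; exact Nat.pow_le_pow_right hp.out.pos (by omega))
    have hall : S₀ ≤ Subgroup.centralizer (P₀ : Set (G7 K)) := by
      rw [← heq]
      refine sup_le (Subgroup.zpowers_le.2 (Subgroup.mem_centralizer_iff.2 fun y hy => ?_))
        fun x hx => Subgroup.mem_centralizer_iff.2 fun y hy => hab _ (hP₀T hy) _ (hP₀T hx)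
      exact hsc y (Subgroup.mem_sup_right hy)
    exact hmnc fun t ht => ((Subgroup.mem_centralizer_iff.1
      (hall (Subgroup.mem_sup_left (Subgroup.mem_zpowers m)))) t ht).symm
  obtain ⟨w, hw⟩ := S.exists_elt (hP₀T hsP) hsp
  have hwfix : act7 p w = w := hfix w (S.elt_injective (by
    rw [← hiter, hw, ← hm, hsc m (Subgroup.mem_sup_left (Subgroup.mem_zpowers m)), mul_inv_cancel_right]))
  have hwrat : S.Rat w := by
    obtain ⟨g, hg⟩ := hrat
    refine ⟨c * g * c⁻¹, ?_⟩
    rw [← S.elt_pow, hw, hs, conj_pow, S.elt_pow, ← hg]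
    group
  have hw0 : w ≠ 0 := fun h => hv (S.elt_injective (by
    rw [h, S.elt_zero, hs] at hw
    rw [S.elt_zero]
    exact conj_eq_one_iff.1 hw.symm))
  obtain ⟨j₀, hj₀⟩ := count_of_fixed S.prime hwfix
  refine absurd hj₀ (not_le.2 ((table S.prime (coordsM_card w) (coordsM_sum w) (hwrat.uniform S) ?_).2 j₀))
  exact fun h => hw0 (aOf_eq_zero S.ne_two fun i => h _ (Multiset.mem_map.2 ⟨i, Finset.mem_univ_val _, rfl⟩))

end Setting

end Cfsg.Agent.AltE7
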