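import Cfsg.Agent.Lib.AltE7.Section
import Cfsg.Agent.Lib.AltE7.Perms
import Cfsg.Agent.Lib.AltE7.Torus

/-!
# Rational elementary abelian subgroups of the Chevalley group of type E7

* `exists_toral` : a rational elementary abelian subgroup of rank at least two lies in a torus;
* `zeros`        : the zeros of the weights on it.
-/

set_option autoImplicit false
set_option linter.style.haveILetI false

namespace Cfsg.Agent.AltE7

open Cfsg.Lie Cfsg.Agent.ToralSection

variable {s : ℕ} [hs : Fact s.Prime] {K : Type} [Field K] [Fintype K] (S : Setting s K)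

include S in
theorem torus_torsion : Nat.card {t : G7 K // t ∈ (tau K).range ∧ t ^ s = 1} ≤ s ^ 7 := by
  classical
  haveI : NeZero s := ⟨hs.out.ne_zero⟩
  choose f hf using fun t : {t : G7 K // t ∈ (tau K).range ∧ t ^ s = 1} => S.exists_elt t.2.1 t.2.2
  have hinj : Function.Injective f := fun a b h => Subtype.ext (by rw [← hf a, ← hf b, h])
  refine (Nat.card_le_card_of_injective f hinj).trans (le_of_eq ?_)
  rw [Nat.card_fun, Nat.card_zmod, Nat.card_fin]

omit hs [Fintype K] in
theorem tau_comm : ∀ a ∈ (tau K).range, ∀ b ∈ (tau K).range, a * b = b * a := by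
  rintro _ ⟨a, rfl⟩ _ ⟨b, rfl⟩
  rw [← map_mul, ← map_mul, mul_comm]

include S in
theorem torus_index : ¬ s ^ 2 ∣ (tau K).range.index := by
  classical
  refine Setting.index_not_sq S.prime ?_
  rw [← Fintype.card_units, ← S.order]
  exact orderOf_dvd_card

/-- A rational elementary abelian subgroup of rank at least two is conjugate into the torus. -/
theorem exists_toral {k : ℕ} (hk : 2 ≤ k) (ε : Multiplicative (Fin k → ZMod s) →* G7 K)
    (hε : Function.Injective ε)
    (hrat : ∀ v, ∃ g, g * ε (Multiplicative.ofAdd v) * g⁻¹ = ε (Multiplicative.ofAdd ((3 : ℕ) • v))) :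
    ∃ (c : G7 K) (L : (Fin k → ZMod s) →+ Fin 7 → ZMod s), Function.Injective L ∧
      ∀ v, c * ε (Multiplicative.ofAdd v) * c⁻¹ = S.elt (L v) := by
  classical
  haveI : NeZero s := ⟨hs.out.ne_zero⟩
  set T := (tau K).range with hT
  have hpow : ∀ x, ε x ^ s = 1 := fun x => by
    have h0 : x ^ s = 1 := Multiplicative.toAdd.injective (funext fun i => by
      rw [toAdd_pow, Pi.smul_apply, nsmul_eq_mul, ZMod.natCast_self, zero_mul, toAdd_one, Pi.zero_apply])
    rw [← map_pow, h0, map_one]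
  have hcard : Nat.card ε.range = s ^ k := by
    rw [← Nat.card_congr (MonoidHom.ofInjective hε).toEquiv, Nat.card_congr Multiplicative.toAdd, Nat.card_fun,
      Nat.card_zmod, Nat.card_fin]
  obtain ⟨c₁, hc₁⟩ := exists_conj_relIndex (torus_index S) (IsPGroup.of_card hcard)
  set U := ε.range.map (MulAut.conj c₁).toMonoidHom with hU
  have hUcard : Nat.card U = s ^ k := by
    rw [hU, Subgroup.card_map_of_injective (MulAut.conj c₁).injective, hcard]
  -- an element inside the torus
  obtain ⟨v, hv0, hvT⟩ : ∃ v : Fin k → ZMod s, v ≠ 0 ∧ c₁ * ε (Multiplicative.ofAdd v) * c₁⁻¹ ∈ T := by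
    have hne : T.subgroupOf U ≠ ⊥ := by
      intro h
      have e := (T.subgroupOf U).card_mul_index
      rw [h, Subgroup.card_bot, one_mul, ← h, hUcard] at e
      have h2 : T.relIndex U ≤ s := hc₁
      rw [Subgroup.relIndex, e] at h2
      have h3 := Nat.pow_le_pow_right hs.out.pos hk
      nlinarith [hs.out.two_le]
    obtain ⟨⟨u, hu⟩, huT, hu1⟩ := (Subgroup.bot_or_exists_ne_one _).resolve_left hne
    obtain ⟨_, ⟨w, rfl⟩, rfl⟩ := hu
    refine ⟨w.toAdd, fun h => hu1 (Subtype.ext ?_), Subgroup.mem_subgroupOf.1 huT⟩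
    show c₁ * ε w * c₁⁻¹ = 1
    rw [show w = 1 from Multiplicative.toAdd.injective h, map_one, mul_one, mul_inv_cancel]
  obtain ⟨u, hu⟩ := S.exists_elt hvT (by rw [conj_pow, hpow, mul_one, mul_inv_cancel])
  have hu0 : u ≠ 0 := fun h => hv0 (by
    rw [h, S.elt_zero, eq_comm, conj_eq_one_iff, ← map_one ε] at hu
    exact Multiplicative.ofAdd.injective (hε hu))
  have hurat : S.Rat u := by
    obtain ⟨g, hg⟩ := hrat v
    refine ⟨c₁ * g * c₁⁻¹, ?_⟩
    rw [← S.elt_pow, hu, conj_pow, ← map_pow, ← ofAdd_nsmul, ← hg]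
    group
  have hrel := S.rational_toral hu0 hurat
  set X := Subgroup.centralizer ({S.elt u} : Set (G7 K)) with hX
  have hUX : U ≤ X := by
    rintro _ ⟨_, ⟨w, rfl⟩, rfl⟩
    rw [hX, Subgroup.mem_centralizer_singleton_iff, hu]
    show c₁ * ε w * c₁⁻¹ * (c₁ * ε (Multiplicative.ofAdd v) * c₁⁻¹) =
      c₁ * ε (Multiplicative.ofAdd v) * c₁⁻¹ * (c₁ * ε w * c₁⁻¹)
    simp only [conj_mul, ← map_mul, mul_comm w]
  obtain ⟨x, -, hx⟩ := exists_conj_into (G := X) (T := T.subgroupOf X) (X := ⊤) (P := U.subgroupOf X) le_top hrel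
    le_top ((IsPGroup.of_card hUcard).of_equiv (Subgroup.subgroupOfEquivOfLe hUX).symm)
  set c := (x : G7 K) * c₁ with hc
  have hmem : ∀ w : Fin k → ZMod s, ∃ l, S.elt l = c * ε (Multiplicative.ofAdd w) * c⁻¹ := by
    intro w
    refine S.exists_elt ?_ (by rw [conj_pow, hpow, mul_one, mul_inv_cancel])
    have hwU : c₁ * ε (Multiplicative.ofAdd w) * c₁⁻¹ ∈ U := ⟨_, ⟨_, rfl⟩, rfl⟩
    have h := Subgroup.mem_subgroupOf.1 (hx ⟨_, hUX hwU⟩ (Subgroup.mem_subgroupOf.2 hwU))
    rw [Subgroup.coe_mul, Subgroup.coe_mul, Subgroup.coe_inv] at h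
    rw [show c * ε (Multiplicative.ofAdd w) * c⁻¹ =
      (x : G7 K) * (c₁ * ε (Multiplicative.ofAdd w) * c₁⁻¹) * (x : G7 K)⁻¹ by rw [hc]; group]
    exact h
  choose l hl using hmem
  refine ⟨c, AddMonoidHom.mk' l fun a b => S.elt_injective ?_, fun a b h => ?_, fun w => (hl w).symm⟩
  · rw [S.elt_add, hl, hl, hl, ofAdd_add, map_mul, conj_mul]
  · have e := congrArg S.elt h
    simp only [AddMonoidHom.mk'_apply, hl] at e
    exact Multiplicative.ofAdd.injective (hε ((MulAut.conj c).injective e))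

/-- The number of weights vanishing at a point. -/
def wz (v : Fin 7 → ZMod s) : ℕ := (weightsM (coordsM v)).count 0

omit [Fintype K] in
theorem pairs_mem {v : Fin 7 → ZMod s} (hv : v ≠ 0) (hr : S.Rat v) :
    ((rootsM (coordsM v)).count 0, wz v) ∈ Pairs s := by
  haveI : NeZero s := ⟨hs.out.ne_zero⟩
  refine (table S.prime (coordsM_card v) (coordsM_sum v) (hr.uniform S) ?_).1
  exact fun h => hv (aOf_eq_zero S.ne_two fun i => h _ (Multiset.mem_map.2 ⟨i, Finset.mem_univ_val _, rfl⟩))

/-- The sum of the zeros over a space. -/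
theorem wz_sum {k : ℕ} (L : (Fin (k + 1) → ZMod s) →+ Fin 7 → ZMod s) :
    s ^ k ∣ ∑ v, wz (L v) ∧ 56 * s ^ k ≤ ∑ v, wz (L v) := by
  let φ : Fin 8 → ((Fin (k + 1) → ZMod s) →+ ZMod s) := fun i =>
    ((Pi.evalAddMonoidHom (fun _ : Fin 8 => ZMod s) i).comp aOf).comp L
  have h := sum_count (weightsM ((Finset.univ : Finset (Fin 8)).val.map φ))
  have hc : Multiset.card (weightsM ((Finset.univ : Finset (Fin 8)).val.map φ)) = 56 := by
    rw [weightsM, Multiset.card_add, Multiset.card_map, Multiset.card_map, Multiset.card_map,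
      Multiset.card_powersetCard, Multiset.card_map]
    rfl
  have he : ∀ v, ((weightsM ((Finset.univ : Finset (Fin 8)).val.map φ)).map fun ψ => ψ v).count 0 = wz (L v) := by
    intro v
    have e := weightsM_map (AddMonoidHom.eval v) ((Finset.univ : Finset (Fin 8)).val.map φ)
    rw [Multiset.map_map] at e
    exact congrArg (Multiset.count 0) e.symm
  rw [hc] at h
  simp only [he] at h
  exact h

end Cfsg.Agent.AltE7
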