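import Cfsg.Agent.Lib.AltE7.Lift

/-!
# Alternating sections of the groups of type E7

* `no_A14` : no section of degree fourteen away from characteristic seven;
* `no_A15` : no section of degree fifteen in characteristic seven;
* `e7_alt_bound` : the bound.
-/

set_option autoImplicit false
set_option maxRecDepth 100000
set_option linter.style.haveILetI false

namespace Cfsg.Agent.AltE7

open Cfsg.Lie Cfsg.Lie.ChevalleyDatum Cfsg.Agent.ToralSection

theorem card_alt (n : ℕ) : Nat.card (alternatingGroup (Fin (n + 2))) = (n + 2).factorial / 2 := by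
  rw [nat_card_alternatingGroup, Nat.card_eq_fintype_card, Fintype.card_fin]

theorem alt_not_comm (n : ℕ) (h : 4 ≤ n) :
    ¬ ∀ a b : alternatingGroup (Fin n), a * b = b * a := fun hc => by
  have := (alternatingGroup.isMulCommutative_iff_card_le_three (α := Fin n)).1 ⟨⟨hc⟩⟩
  rw [Nat.card_eq_fintype_card, Fintype.card_fin] at this
  omega

theorem gl14 : ∀ d ≤ 8, ¬ (14 : ℕ).factorial / 2 ∣ ∏ i : Fin d, (7 ^ d - 7 ^ i.val) := by decide +kernel

theorem gl15 : ∀ d ≤ 8, ¬ (15 : ℕ).factorial / 2 ∣ ∏ i : Fin d, (5 ^ d - 5 ^ i.val) := by decide +kernel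

theorem vec7 : (![1, 0] : Fin 2 → ZMod 7) ≠ 0 ∧ (![1, 1] : Fin 2 → ZMod 7) ≠ 0 ∧
    ((![1, 0] : Fin 2 → ZMod 7) 0 = 0 ∨ (![1, 0] : Fin 2 → ZMod 7) 1 = 0) ∧
    ¬ ((![1, 1] : Fin 2 → ZMod 7) 0 = 0 ∨ (![1, 1] : Fin 2 → ZMod 7) 1 = 0) := by
  decide

theorem count7 :
    ((((Finset.univ : Finset (Fin 2 → ZMod 7)).erase 0).filter fun v => v 0 = 0 ∨ v 1 = 0).card = 12) ∧
    ((((Finset.univ : Finset (Fin 2 → ZMod 7)).erase 0).filter fun v => ¬ (v 0 = 0 ∨ v 1 = 0)).card = 36) := by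
  decide +kernel

theorem count56 : Multiset.count (0 : ZMod 5) (weightsM (Multiset.replicate 8 0)) = 56 ∧
    Multiset.count (0 : ZMod 7) (weightsM (Multiset.replicate 8 0)) = 56 := by
  decide +kernel

variable {s : ℕ} [hs : Fact s.Prime] {K : Type} [Field K] [Fintype K] (S : Setting s K)

include S in
/-- The lifted elementary abelian subgroup of a section, with its automizer. -/
theorem exists_lifted {n k : ℕ} [NeZero s] (hsodd : Odd s) (hn : n + 2 = k * s) (h5 : 5 ≤ n + 2)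
    (h3 : 3 ∣ (n + 2).factorial / 2) (hs3 : 3 ≠ s)
    (hGL : ∀ d ≤ 8, ¬ (n + 2).factorial / 2 ∣ ∏ i : Fin d, (s ^ d - s ^ i.val))
    (hsyl : ¬ s ^ (k + 1) ∣ (n + 2).factorial / 2)
    {H₀ : Type} [Group H₀] [Finite H₀] (ι : H₀ →* G7 K) (hι : Function.Injective ι)
    (φ : H₀ →* alternatingGroup (Fin (k * s))) (hφ : Function.Surjective φ)
    (σ : Equiv.Perm (Fin k)) (c : Fin k → (ZMod s)ˣ) (hsign : Equiv.Perm.sign (mo σ c) = 1) (α : Fin k → ℕ)
    (hmv : ∀ i, mv σ c (Pi.single i 1) = α i • Pi.single i 1)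
    (hα : ∀ i j, i ≠ j → α i * α j % s ≠ 1) :
    ∃ ε : Multiplicative (Fin k → ZMod s) →* G7 K, Function.Injective ε ∧
      ∀ σ' c', Equiv.Perm.sign (mo σ' c') = 1 →
        ∃ g, ∀ v, g * ε (Multiplicative.ofAdd v) * g⁻¹ = ε (Multiplicative.ofAdd (mv σ' c' v)) := by
  classical
  haveI : Fact (Nat.Prime 3) := ⟨Nat.prime_three⟩
  have hcard : Nat.card (alternatingGroup (Fin (k * s))) = (n + 2).factorial / 2 := by
    rw [← hn, card_alt]
  haveI hsimple : IsSimpleGroup (alternatingGroup (Fin (k * s))) :=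
    alternatingGroup.isSimpleGroup (by rw [Nat.card_eq_fintype_card, Fintype.card_fin]; omega)
  obtain ⟨L, χ, -, hχ, -⟩ := AltE6.exists_cover φ ⊤ (T := ⊤) (by rw [Subgroup.map_top_of_surjective φ hφ])
  let te : ↥(⊤ : Subgroup (alternatingGroup (Fin (k * s)))) ≃* alternatingGroup (Fin (k * s)) :=
    Subgroup.topEquiv
  have hm : AltE6.MinCover (te.toMonoidHom.comp χ) := ⟨te.surjective.comp hχ.surj, fun M hM => hχ.min M (by
    rw [← Subgroup.map_map] at hM
    exact Subgroup.map_injective (f := te.toMonoidHom) te.injective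
      (hM.trans (Subgroup.map_top_of_surjective te.toMonoidHom te.surjective).symm))⟩
  set ι' : L →* G7 K := ι.comp L.subtype with hι'
  have hι'i : Function.Injective ι' := hι.comp L.subtype_injective
  obtain ⟨ε, hε, haut⟩ := exists_hom_lift hm (alt_not_comm _ (by omega)) (q := 3) hs3 (by rw [hcard]; exact h3)
    (by rw [hcard]; exact hGL)
    (fun R hR => frattini_bound tau_comm (torus_index S) (torus_torsion S) ι' hι'i R hR)
    (altHom k s hsodd) (altHom_injective hsodd) (by rw [hcard]; exact hsyl) (toAlt (mo σ c) hsign) α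
    (fun i => by rw [altHom_conj, hmv, ofAdd_nsmul, map_pow]) hα
  refine ⟨ι'.comp ε, hι'i.comp hε, fun σ' c' h' => ?_⟩
  obtain ⟨g, hg⟩ := haut _ (mv σ' c') fun v => altHom_conj hsodd h' v
  exact ⟨ι' g, fun v => by simp only [MonoidHom.comp_apply]; rw [← map_inv, ← map_mul, ← map_mul, hg]⟩

/-- Elements of a rational subgroup conjugate in it have the same zeros. -/
theorem wz_conj {k : ℕ} {ε : Multiplicative (Fin k → ZMod s) →* G7 K} {c : G7 K}
    {L : (Fin k → ZMod s) →+ Fin 7 → ZMod s} (hinj : Function.Injective L)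
    (hL : ∀ v, c * ε (Multiplicative.ofAdd v) * c⁻¹ = S.elt (L v))
    (hrat : ∀ v, ∃ g, g * ε (Multiplicative.ofAdd v) * g⁻¹ = ε (Multiplicative.ofAdd ((3 : ℕ) • v))) :
    (∀ v, v ≠ 0 → ((rootsM (coordsM (L v))).count 0, wz (L v)) ∈ Pairs s) ∧
      ∀ v w g, g * ε (Multiplicative.ofAdd v) * g⁻¹ = ε (Multiplicative.ofAdd w) → v ≠ 0 → w ≠ 0 →
        wz (L v) = wz (L w) := by
  have hR : ∀ v, S.Rat (L v) := fun v => by
    obtain ⟨g, hg⟩ := hrat v
    refine ⟨c * g * c⁻¹, ?_⟩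
    rw [← map_nsmul, ← hL, ← hL, ← hg]
    group
  have hP : ∀ v, v ≠ 0 → ((rootsM (coordsM (L v))).count 0, wz (L v)) ∈ Pairs s := fun v hv =>
    pairs_mem S (fun h => hv (hinj (by rw [h, map_zero]))) (hR v)
  refine ⟨hP, fun v w g hg hv hw => ?_⟩
  have e := S.rootsM_conj (v := L v) (w := L w) (g := c * g * c⁻¹) (by rw [← hL, ← hL, ← hg]; group)
  have hfun : ∀ t, t = 5 ∨ t = 7 → ∀ x ∈ Pairs t, ∀ y ∈ Pairs t, x.1 = y.1 → x.2 = y.2 := by
    rintro t (rfl | rfl) <;> decide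
  exact hfun s S.prime _ (hP v hv) _ (hP w hw) (by rw [e])

omit [Fintype K] hs in
theorem wz_zero {m : ℕ} [Fact m.Prime] (hm : m = 5 ∨ m = 7) : wz (0 : Fin 7 → ZMod m) = 56 := by
  have h : coordsM (0 : Fin 7 → ZMod m) = Multiset.replicate 8 0 := by
    rw [coordsM, map_zero]
    exact Multiset.map_const' _ _
  rw [wz, h]
  rcases hm with rfl | rfl
  · exact count56.1
  · exact count56.2

theorem no_A14 [Fact (Nat.Prime 7)] (S : Setting 7 K) {H₀ : Type} [Group H₀] [Finite H₀] (ι : H₀ →* G7 K)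
    (hι : Function.Injective ι) (φ : H₀ →* alternatingGroup (Fin 14)) (hφ : Function.Surjective φ) : False := by
  classical
  obtain ⟨ε, hε, haut⟩ := exists_lifted S (n := 12) (k := 2) (by decide) rfl (by norm_num) (by decide +kernel)
    (by norm_num) gl14 (by decide +kernel) ι hι φ hφ 1 (mult7 2 2) (sign_mult7 _ _ _ three7.1) ![3, 3] pair7
    (by decide)
  have hrat : ∀ v, ∃ g, g * ε (Multiplicative.ofAdd v) * g⁻¹ = ε (Multiplicative.ofAdd ((3 : ℕ) • v)) := fun v => by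
    obtain ⟨g, hg⟩ := haut 1 (mult7 2 2) (sign_mult7 _ _ _ three7.1)
    exact ⟨g, by rw [hg, three7.2]⟩
  obtain ⟨c, L, hinj, hL⟩ := exists_toral S le_rfl ε hε hrat
  obtain ⟨hP, hconj⟩ := wz_conj S hinj hL hrat
  set z₁ := wz (L ![1, 0]) with hz₁
  set z₂ := wz (L ![1, 1]) with hz₂
  have horb : ∀ v : Fin 2 → ZMod 7, v ≠ 0 → wz (L v) = if v 0 = 0 ∨ v 1 = 0 then z₁ else z₂ := by
    intro v hv
    obtain ⟨σ, a, b, hok, he⟩ := orbit7 v hv
    obtain ⟨g, hg⟩ := haut σ (mult7 a b) (sign_mult7 _ _ _ hok)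
    have hsupp : (v 0 = 0 ∨ v 1 = 0) ↔ (mv σ (mult7 a b) v 0 = 0 ∨ mv σ (mult7 a b) v 1 = 0) := by
      simp only [mv, Units.mul_right_eq_zero]
      rcases Fin.exists_fin_two.1 ⟨σ.symm 0, rfl⟩ with h | h <;>
        rcases Fin.exists_fin_two.1 ⟨σ.symm 1, rfl⟩ with h' | h'
      · exact absurd (σ.symm.injective (h.trans h'.symm)) (by decide)
      · rw [h, h']
      · rw [h, h', or_comm]
      · exact absurd (σ.symm.injective (h.trans h'.symm)) (by decide)
    rw [if_congr hsupp rfl rfl]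
    rcases he with he | he <;> rw [he]
    · rw [if_pos vec7.2.2.1]
      exact hconj v _ g (he ▸ hg v) hv vec7.1
    · rw [if_neg vec7.2.2.2]
      exact hconj v _ g (he ▸ hg v) hv vec7.2.1
  obtain ⟨hdvd, hge⟩ := wz_sum L
  have hsum : ∑ v, wz (L v) = 56 + (12 * z₁ + 36 * z₂) := by
    rw [← Finset.add_sum_erase _ _ (Finset.mem_univ (0 : Fin 2 → ZMod 7)), map_zero, wz_zero (Or.inr rfl),
      Finset.sum_congr rfl (fun v hv => horb v (Finset.ne_of_mem_erase hv)), Finset.sum_ite, Finset.sum_const,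
      Finset.sum_const, smul_eq_mul, smul_eq_mul]
    rw [count7.1, count7.2]
  rw [hsum] at hdvd hge
  have hvals : ∀ v : Fin 2 → ZMod 7, v ≠ 0 → wz (L v) = 8 ∨ wz (L v) = 20 ∨ wz (L v) = 2 := fun v hv => by
    have := hP v hv
    simp only [Pairs, show (7 : ℕ) ≠ 5 by norm_num, if_false, List.mem_cons, List.not_mem_nil, Prod.mk.injEq,
      or_false] at this
    omega
  rcases hvals ![1, 0] vec7.1 with h1 | h1 | h1 <;> rcases hvals ![1, 1] vec7.2.1 with h2 | h2 | h2 <;>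
    rw [← hz₁] at h1 <;> rw [← hz₂] at h2 <;> subst z₁ <;> subst z₂ <;> omega

theorem no_A15 [Fact (Nat.Prime 5)] (S : Setting 5 K) {H₀ : Type} [Group H₀] [Finite H₀] (ι : H₀ →* G7 K)
    (hι : Function.Injective ι) (φ : H₀ →* alternatingGroup (Fin 15)) (hφ : Function.Surjective φ) : False := by
  classical
  obtain ⟨ε, hε, haut⟩ := exists_lifted S (n := 13) (k := 3) (by decide) rfl (by norm_num) (by decide +kernel)
    (by norm_num) gl15 (by decide +kernel) ι hι φ hφ (sw false) (mult5 2 2 0) (sign_mult5 _ _ _ _ pair5.1)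
    ![3, 3, 1] pair5.2 (by decide)
  have hrat : ∀ v, ∃ g, g * ε (Multiplicative.ofAdd v) * g⁻¹ = ε (Multiplicative.ofAdd ((3 : ℕ) • v)) := fun v => by
    obtain ⟨σ, a, b, d, hok, he⟩ := three5 v
    obtain ⟨g, hg⟩ := haut (sw σ) (mult5 a b d) (sign_mult5 _ _ _ _ hok)
    exact ⟨g, by rw [hg, he]⟩
  obtain ⟨c, L, hinj, hL⟩ := exists_toral S (by norm_num) ε hε hrat
  obtain ⟨hP, -⟩ := wz_conj S hinj hL hrat
  obtain ⟨hdvd, -⟩ := wz_sum L
  have hsum : ∑ v, wz (L v) = 56 + 124 * 16 := by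
    rw [← Finset.add_sum_erase _ _ (Finset.mem_univ (0 : Fin 3 → ZMod 5)), map_zero, wz_zero (Or.inl rfl),
      Finset.sum_congr rfl (fun v hv => show wz (L v) = 16 by
        have := hP v (Finset.ne_of_mem_erase hv)
        simp only [Pairs, if_true, List.mem_cons, List.not_mem_nil, Prod.mk.injEq, or_false] at this
        exact this.2), Finset.sum_const, smul_eq_mul, Finset.card_erase_of_mem (Finset.mem_univ _)]
    rfl
  rw [hsum] at hdvd
  omega

universe u

/-- Alternating sections of E7. -/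
theorem e7_alt_bound {F : Type u} [Field F] [Fintype F] (p : ℕ) [hp : Fact p.Prime] [CharP F p] (r : ℕ)
    {G : Type u} [Group G] (ι₀ : G →* ↥(chevE7.group F)) (hι₀ : Function.Injective ι₀)
    (φ : G →* alternatingGroup (Fin r)) (hφ : Function.Surjective φ) :
    r ≤ 13 + (if p = 7 then 1 else 0) := by
  classical
  by_contra hr
  obtain ⟨K, _, _, j, hK⟩ := ToralSection.exists_extension (F := F) p 12
  obtain ⟨i, hi⟩ := ToralSection.exists_hom_group (D := chevE7) good7 F j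
  let e := MonoidHom.ofInjective (show Function.Injective (i.comp ι₀) from hi.comp hι₀)
  let φ₁ : ↥(i.comp ι₀).range →* alternatingGroup (Fin r) := φ.comp e.symm.toMonoidHom
  have hφ₁ : Function.Surjective φ₁ := hφ.comp e.symm.surjective
  have hroot : ∀ m : ℕ, m = 5 ∨ m = 7 → m ≠ p → Nonempty (Setting m K) := by
    intro m hm hmp
    haveI : Fact m.Prime := ⟨by rcases hm with rfl | rfl <;> norm_num⟩
    obtain ⟨n, hpr, hn⟩ := FiniteField.card F p
    have hpz : (p : ZMod m) ≠ 0 := fun h0 => hmp ((Nat.prime_dvd_prime_iff_eq (Fact.out : m.Prime) hp.out).1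
      ((ZMod.natCast_eq_zero_iff p m).1 h0))
    have hd : m ∣ Nat.card Kˣ := by
      rw [Nat.card_units, Nat.card_eq_fintype_card, hK, ← ZMod.natCast_eq_zero_iff,
        Nat.cast_sub (Nat.one_le_pow _ _ Fintype.card_pos), Nat.cast_pow, hn, Nat.cast_pow, ← pow_mul,
        mul_comm, pow_mul, Nat.cast_one, sub_eq_zero]
      obtain ⟨d, hd⟩ : m - 1 ∣ 12 := by rcases hm with rfl | rfl <;> norm_num
      rw [hd, pow_mul, ZMod.pow_card_sub_one_eq_one hpz, one_pow, one_pow]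
    obtain ⟨ζ, hζ⟩ := exists_prime_orderOf_dvd_card' m hd
    exact ⟨⟨hm, ζ, hζ⟩⟩
  by_cases hp7 : p = 7
  · rw [if_pos hp7] at hr
    obtain ⟨H₁, ψ, hψ⟩ := ToralSection.exists_sub_section (show 15 ≤ r by omega) φ₁ hφ₁
    haveI : Fact (Nat.Prime 5) := ⟨by norm_num⟩
    obtain ⟨S⟩ := hroot 5 (Or.inl rfl) (by omega)
    exact no_A15 S ((i.comp ι₀).range.subtype.comp H₁.subtype)
      (Subtype.val_injective.comp Subtype.val_injective) ψ hψ
  · rw [if_neg hp7] at hr
    obtain ⟨H₁, ψ, hψ⟩ := ToralSection.exists_sub_section (show 14 ≤ r by omega) φ₁ hφ₁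
    haveI : Fact (Nat.Prime 7) := ⟨by norm_num⟩
    obtain ⟨S⟩ := hroot 7 (Or.inr rfl) (Ne.symm hp7)
    exact no_A14 S ((i.comp ι₀).range.subtype.comp H₁.subtype)
      (Subtype.val_injective.comp Subtype.val_injective) ψ hψ

end Cfsg.Agent.AltE7
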