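import Cfsg.Agent.EqLemmas

/-!
# Elements of order five or seven of a torus of type E7, in the coordinates of the subsystem of type A7

An element is given by eight numbers modulo `p` with sum zero. The roots are their differences and their sums
over four of them, the weights of the 56-dimensional module are the sums over two of them and their negatives.

* `table`        : what uniformity on the roots says about the zeros among roots and weights;
* `sum_count`    : the number of zeros of a family of linear forms, summed over a space, is divisible.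
-/

set_option autoImplicit false

namespace Cfsg.Agent.AltE7

section Defs

variable {R : Type*} [AddCommGroup R]

/-- The roots, with eight zeros. -/
def rootsM (M : Multiset R) : Multiset R :=
  (M.bind fun x => M.map fun y => x - y) + (M.powersetCard 4).map Multiset.sum

/-- The weights. -/
def weightsM (M : Multiset R) : Multiset R :=
  (M.powersetCard 2).map Multiset.sum + ((M.powersetCard 2).map Multiset.sum).map Neg.neg

theorem rootsM_map {S : Type*} [AddCommGroup S] (f : R →+ S) (M : Multiset R) :
    rootsM (M.map f) = (rootsM M).map f := by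
  simp only [rootsM, Multiset.map_add, Multiset.map_bind, Multiset.bind_map, Multiset.map_map,
    Multiset.powersetCard_map, Function.comp_def, map_sub, map_multiset_sum]

theorem weightsM_map {S : Type*} [AddCommGroup S] (f : R →+ S) (M : Multiset R) :
    weightsM (M.map f) = (weightsM M).map f := by
  simp only [weightsM, Multiset.map_add, Multiset.map_map,
    Multiset.powersetCard_map, Function.comp_def, map_neg, map_multiset_sum]

end Defs

/-- Nondecreasing lists below `p`. -/
def enum (p : ℕ) : ℕ → ℕ → List (List ℕ)
  | 0, _ => [[]]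
  | k + 1, lo => (List.range' lo (p - lo)).flatMap fun x => (enum p k x).map (x :: ·)

theorem mem_enum {p : ℕ} : ∀ (l : List ℕ) (lo : ℕ), l.Pairwise (· ≤ ·) → (∀ x ∈ l, lo ≤ x ∧ x < p) →
    l ∈ enum p l.length lo := by
  intro l
  induction l with
  | nil => intro lo _ _; simp [enum]
  | cons a l ih =>
    intro lo hs hb
    obtain ⟨ha, hl⟩ := List.pairwise_cons.1 hs
    obtain ⟨h1, h2⟩ := hb a List.mem_cons_self
    simp only [List.length_cons, enum, List.mem_flatMap, List.mem_map]
    refine ⟨a, List.mem_range'_1.2 ⟨h1, by omega⟩, l, ih a hl fun x hx => ⟨ha x hx, ?_⟩, rfl⟩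
    exact (hb x (List.mem_cons_of_mem _ hx)).2

/-- Zeros among roots (with eight further zeros) and weights. -/
def Pairs (p : ℕ) : List (ℕ × ℕ) := if p = 5 then [(34, 16)] else [(20, 8), (38, 20), (32, 2)]

/-- The spectrum on the roots is invariant under multiplication by three. -/
def Uniform (p : ℕ) (M : Multiset (ZMod p)) : Prop := ∀ j : ZMod p, (rootsM M).count (3 * j) = (rootsM M).count j

/-- What is checked. -/
def TableOk (p : ℕ) [NeZero p] (M : Multiset (ZMod p)) : Prop :=
  M.sum ≠ 0 ∨ (∀ x ∈ M, x = 0) ∨ (∃ j : ZMod p, (rootsM M).count (3 * j) ≠ (rootsM M).count j) ∨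
    (((rootsM M).count 0, (weightsM M).count 0) ∈ Pairs p ∧ ∀ j : ZMod p, M.count j < p)

instance (p : ℕ) [NeZero p] (M : Multiset (ZMod p)) : Decidable (TableOk p M) := by
  unfold TableOk; infer_instance

theorem checks_five : (enum 5 8 0).all (fun l => decide (TableOk 5 ↑(l.map fun x : ℕ => (x : ZMod 5)))) = true := by
  decide +kernel

theorem checks_seven : (enum 7 8 0).all (fun l => decide (TableOk 7 ↑(l.map fun x : ℕ => (x : ZMod 7)))) = true := by
  decide +kernel

/-- The table. -/
theorem table {p : ℕ} [NeZero p] (hp : p = 5 ∨ p = 7) {M : Multiset (ZMod p)} (hc : Multiset.card M = 8)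
    (hs : M.sum = 0) (hu : Uniform p M) (hne : ¬ ∀ x ∈ M, x = 0) :
    ((rootsM M).count 0, (weightsM M).count 0) ∈ Pairs p ∧ ∀ j : ZMod p, M.count j < p := by
  have hgood : TableOk p M := by
    set l := (M.map ZMod.val).sort (· ≤ ·) with hl
    have hlen : l.length = 8 := by rw [hl, Multiset.length_sort, Multiset.card_map, hc]
    have hmem : l ∈ enum p 8 0 := hlen ▸ mem_enum l 0 (Multiset.pairwise_sort _ _) fun x hx => by
      rw [hl, Multiset.mem_sort, Multiset.mem_map] at hx
      obtain ⟨y, -, rfl⟩ := hx
      exact ⟨Nat.zero_le _, ZMod.val_lt y⟩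
    have hM : (↑(l.map fun x : ℕ => (x : ZMod p)) : Multiset (ZMod p)) = M := by
      rw [← Multiset.map_coe, hl, Multiset.sort_eq, Multiset.map_map]
      simp
    rw [← hM]
    rcases hp with rfl | rfl
    · exact of_decide_eq_true (List.all_eq_true.1 checks_five l hmem)
    · exact of_decide_eq_true (List.all_eq_true.1 checks_seven l hmem)
  rcases hgood with h | h | ⟨j, h⟩ | h
  · exact absurd hs h
  · exact absurd h hne
  · exact absurd (hu j) h
  · exact h

/-- The number of zeros of forms, summed over the points, is a multiple of the size of a kernel. -/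
theorem sum_count {p k : ℕ} [hp : Fact p.Prime] (Φ : Multiset ((Fin (k + 1) → ZMod p) →+ ZMod p)) :
    p ^ k ∣ ∑ v, (Φ.map fun φ => φ v).count 0 ∧
      Multiset.card Φ * p ^ k ≤ ∑ v, (Φ.map fun φ => φ v).count 0 := by
  classical
  induction Φ using Multiset.induction_on with
  | empty => simp
  | cons φ Φ ih =>
    have e : ∑ v, ((φ ::ₘ Φ).map fun ψ => ψ v).count 0 =
        (∑ v, (Φ.map fun ψ => ψ v).count 0) + Nat.card φ.ker := by
      simp only [Multiset.map_cons, Multiset.count_cons, Finset.sum_add_distrib]
      congr 1
      rw [Finset.sum_boole, Nat.cast_id, ← SetLike.coe_sort_coe, Nat.card_coe_set_eq]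
      rw [← Set.ncard_coe_finset]
      congr 1
      ext v
      simp [eq_comm]
    have hd : p ^ k ∣ Nat.card φ.ker := by
      have h := φ.ker.card_mul_index
      have hr : φ.ker.index ∣ p := by
        rw [AddSubgroup.index_ker]
        have := φ.range.card_addSubgroup_dvd_card
        rwa [Nat.card_zmod] at this
      rw [Nat.card_fun, Nat.card_zmod, Nat.card_fin] at h
      rcases (Nat.dvd_prime hp.out).1 hr with h1 | h1 <;> rw [h1] at h
      · rw [mul_one] at h
        rw [h]
        exact pow_dvd_pow _ (Nat.le_succ k)
      · rw [pow_succ] at h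
        exact dvd_of_eq (Nat.eq_of_mul_eq_mul_right hp.out.pos h).symm
    rw [e, Multiset.card_cons, add_one_mul]
    exact ⟨dvd_add ih.1 hd, Nat.add_le_add ih.2 (Nat.le_of_dvd Nat.card_pos hd)⟩

end Cfsg.Agent.AltE7
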