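import Cfsg.Agent.Lib.AltE7.Table
import Cfsg.Agent.Lib.ToralSection.Chev
import Cfsg.Agent.Lib.ChevBN.RootTables

/-!
# The torus of type E7 modulo a prime, in the coordinates of the subsystem of type A7

* `rootsM_aOf` : the roots in the eight coordinates;
* `aOf_eq_zero`, `aOf_word` : injectivity, and a word acting as a cycle of length five or seven.
-/

set_option autoImplicit false
set_option maxRecDepth 100000

namespace Cfsg.Agent.AltE7

open Cfsg.Lie Cfsg.Agent.ChevLang Cfsg.Agent.ToralSection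
open scoped Matrix

/-- The doubled coroots in the eight coordinates. -/
def amat : Fin 8 → Fin 7 → ℤ :=
  ![![0, -1, 0, 0, 0, 0, 0], ![2, -1, 0, 0, 0, 0, 0], ![-2, -1, 2, 0, 0, 0, 0], ![0, -1, -2, 2, 0, 0, 0],
    ![0, 1, 0, -2, 2, 0, 0], ![0, 1, 0, 0, -2, 2, 0], ![0, 1, 0, 0, 0, -2, 2], ![0, 1, 0, 0, 0, 0, -2]]

/-- Twice the inverse of `amat`. -/
def bmat : Fin 7 → Fin 8 → ℤ :=
  ![![-1, 1, 0, 0, 0, 0, 0, 0], ![-2, 0, 0, 0, 0, 0, 0, 0], ![-2, 1, 1, 0, 0, 0, 0, 0], ![-3, 1, 1, 1, 0, 0, 0, 0],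
    ![-3, 0, 0, 0, 0, -1, -1, -1], ![-2, 0, 0, 0, 0, 0, -1, -1], ![-1, 0, 0, 0, 0, 0, 0, -1]]

theorem amat_sum : ∀ j : Fin 7, ∑ i : Fin 8, amat i j = 0 := by decide +kernel

theorem bmat_amat : ∀ l j : Fin 7, ∑ i : Fin 8, bmat l i * amat i j = if l = j then 2 else 0 := by
  decide +kernel

/-- The roots in the doubled coordinates. -/
theorem rootsM_amat : rootsM ((Finset.univ : Finset (Fin 8)).val.map amat) =
    Multiset.replicate 8 0 + (Multiset.range 126).map fun r j => 2 * chevE7.cartan j.val r := by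
  decide +kernel

variable {p : ℕ}

/-- Evaluation at an element. -/
def phi (v : Fin 7 → ZMod p) : (Fin 7 → ℤ) →+ ZMod p where
  toFun x := ∑ j, (x j : ZMod p) * v j
  map_zero' := by simp
  map_add' x y := by simp [add_mul, Finset.sum_add_distrib]

/-- The eight coordinates. -/
def aOf : (Fin 7 → ZMod p) →+ (Fin 8 → ZMod p) where
  toFun v i := phi v (amat i)
  map_zero' := by funext i; simp [phi]
  map_add' v w := by funext i; simp [phi, mul_add, Finset.sum_add_distrib]

/-- The value of a root. -/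
def lab (v : Fin 7 → ZMod p) (r : ℕ) : ZMod p := ∑ j : Fin 7, (chevE7.cartan j.val r : ZMod p) * v j

/-- The coordinates as a multiset. -/
def coordsM (v : Fin 7 → ZMod p) : Multiset (ZMod p) := (Finset.univ : Finset (Fin 8)).val.map (aOf v)

theorem rootsM_aOf (v : Fin 7 → ZMod p) :
    rootsM (coordsM v) = Multiset.replicate 8 0 + (Multiset.range 126).map fun r => 2 * lab v r := by
  have h : coordsM v = ((Finset.univ : Finset (Fin 8)).val.map amat).map (phi v) := by
    rw [Multiset.map_map]; rfl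
  rw [h, rootsM_map, rootsM_amat, Multiset.map_add, Multiset.map_replicate, map_zero, Multiset.map_map]
  refine congrArg _ (Multiset.map_congr rfl fun r _ => ?_)
  simp only [Function.comp_apply, phi, AddMonoidHom.coe_mk, ZeroHom.coe_mk, lab, Finset.mul_sum, Int.cast_mul,
    Int.cast_ofNat, mul_assoc]

theorem coordsM_card (v : Fin 7 → ZMod p) : Multiset.card (coordsM v) = 8 := by simp [coordsM]

theorem coordsM_sum (v : Fin 7 → ZMod p) : (coordsM v).sum = 0 := by
  show ∑ i, aOf v i = 0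
  show ∑ i, ∑ j, ((amat i j : ℤ) : ZMod p) * v j = 0
  rw [Finset.sum_comm]
  refine Finset.sum_eq_zero fun j _ => ?_
  rw [← Finset.sum_mul, ← Int.cast_sum, amat_sum, Int.cast_zero, zero_mul]

theorem two_ne_zero' [hp : Fact p.Prime] (hp2 : p ≠ 2) : (2 : ZMod p) ≠ 0 := fun h => hp2 <|
  (Nat.prime_dvd_prime_iff_eq hp.out Nat.prime_two).1 <| (ZMod.natCast_eq_zero_iff 2 p).1 (by exact_mod_cast h)

theorem aOf_eq_zero [hp : Fact p.Prime] (hp2 : p ≠ 2) {v : Fin 7 → ZMod p} (h : ∀ i, aOf v i = 0) : v = 0 := by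
  funext l
  have h1 : ∑ i, ((bmat l i : ℤ) : ZMod p) * aOf v i = 0 :=
    Finset.sum_eq_zero fun i _ => by rw [h, mul_zero]
  have h2 : (2 : ZMod p) * v l = 0 := by
    rw [← h1]
    show _ = ∑ i, ((bmat l i : ℤ) : ZMod p) * ∑ j, ((amat i j : ℤ) : ZMod p) * v j
    simp only [Finset.mul_sum, ← mul_assoc]
    rw [Finset.sum_comm]
    simp only [← Finset.sum_mul, ← Int.cast_mul, ← Int.cast_sum, bmat_amat]
    rw [Finset.sum_eq_single l (fun j _ hj => by rw [if_neg (Ne.symm hj)]; simp) (by simp), if_pos rfl]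
    norm_num
  exact (mul_eq_zero.1 h2).resolve_left (two_ne_zero' hp2)

/-- A word of the Weyl group inducing a cycle of length `p`. -/
def wordOf (p : ℕ) : List (Fin chevE7.rank) :=
  if p = 5 then [⟨3, by decide⟩, ⟨4, by decide⟩, ⟨5, by decide⟩, ⟨6, by decide⟩]
  else [⟨0, by decide⟩, ⟨2, by decide⟩, ⟨3, by decide⟩, ⟨4, by decide⟩, ⟨5, by decide⟩, ⟨6, by decide⟩]

/-- Its matrix. -/
def wordMat (p : ℕ) : Matrix (Fin 7) (Fin 7) ℤ := matOf 7 (colsOf chevE7 (wordOf p))

/-- The cycle it induces. -/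
def cyc (p : ℕ) : Fin 8 → Fin 8 :=
  if p = 5 then ![0, 1, 2, 4, 5, 6, 7, 3] else ![0, 2, 3, 4, 5, 6, 7, 1]

theorem amat_word : ∀ i : Fin 8, ∀ j : Fin 7, (∑ l, amat (cyc 5 i) l * wordMat 5 l j = amat i j) ∧
    (∑ l, amat (cyc 7 i) l * wordMat 7 l j = amat i j) := by
  decide +kernel

theorem wordMat_pow : wordMat 5 ^ 5 = 1 ∧ wordMat 7 ^ 7 = 1 := by decide +kernel

/-- The word on elements. -/
def act7 (p : ℕ) : (Fin 7 → ZMod p) →+ (Fin 7 → ZMod p) where
  toFun v l := ∑ j, ((wordMat p l j : ℤ) : ZMod p) * v j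
  map_zero' := by funext l; simp
  map_add' v w := by funext l; simp [mul_add, Finset.sum_add_distrib]

theorem aOf_word (hp : p = 5 ∨ p = 7) (v : Fin 7 → ZMod p) (i : Fin 8) :
    aOf (act7 p v) (cyc p i) = aOf v i := by
  show ∑ l, ((amat (cyc p i) l : ℤ) : ZMod p) * ∑ j, ((wordMat p l j : ℤ) : ZMod p) * v j =
    ∑ j, ((amat i j : ℤ) : ZMod p) * v j
  simp only [Finset.mul_sum, ← mul_assoc]
  rw [Finset.sum_comm]
  refine Finset.sum_congr rfl fun j _ => ?_
  rw [← Finset.sum_mul]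
  simp only [← Int.cast_mul, ← Int.cast_sum]
  rcases hp with rfl | rfl
  · rw [(amat_word i j).1]
  · rw [(amat_word i j).2]

theorem act7_moves (hp : p = 5 ∨ p = 7) : act7 p (Pi.single 3 1) ≠ Pi.single 3 1 := by
  rcases hp with rfl | rfl <;> decide +kernel

theorem act7_iterate (hp : p = 5 ∨ p = 7) (v : Fin 7 → ZMod p) : (act7 p)^[p] v = v := by
  have h : ∀ n : ℕ, ∀ w : Fin 7 → ZMod p, (act7 p)^[n] w = ((wordMat p ^ n).map (Int.cast : ℤ → ZMod p)) *ᵥ w := by
    intro n
    induction n with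
    | zero => intro w; rw [pow_zero, Matrix.map_one _ Int.cast_zero Int.cast_one, Matrix.one_mulVec]; rfl
    | succ n ih =>
      intro w
      rw [Function.iterate_succ_apply', ih, pow_succ']
      rw [show ((wordMat p * wordMat p ^ n).map (Int.cast : ℤ → ZMod p)) =
        (wordMat p).map Int.cast * (wordMat p ^ n).map Int.cast from Matrix.map_mul (f := Int.castRingHom (ZMod p)),
        ← Matrix.mulVec_mulVec]
      rfl
  rw [h]
  rcases hp with rfl | rfl
  · rw [wordMat_pow.1, Matrix.map_one _ Int.cast_zero Int.cast_one, Matrix.one_mulVec]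
  · rw [wordMat_pow.2, Matrix.map_one _ Int.cast_zero Int.cast_one, Matrix.one_mulVec]

/-- A fixed element has five (seven) equal coordinates. -/
theorem count_of_fixed [hp' : Fact p.Prime] (hp : p = 5 ∨ p = 7) {v : Fin 7 → ZMod p} (h : act7 p v = v) :
    ∃ c, p ≤ (coordsM v).count c := by
  have hs : ∀ i, aOf v (cyc p i) = aOf v i := fun i => by
    conv_lhs => rw [← h]
    exact aOf_word hp v i
  rcases hp with rfl | rfl
  · refine ⟨aOf v 3, ?_⟩
    have e4 : aOf v 4 = aOf v 3 := hs 3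
    have e5 : aOf v 5 = aOf v 3 := (hs 4).trans e4
    have e6 : aOf v 6 = aOf v 3 := (hs 5).trans e5
    have e7 : aOf v 7 = aOf v 3 := (hs 6).trans e6
    have hle : ({3, 4, 5, 6, 7} : Finset (Fin 8)).val.map (aOf v) ≤ coordsM v :=
      Multiset.map_le_map (Finset.val_le_iff.2 (Finset.subset_univ _))
    refine le_trans ?_ (Multiset.count_le_of_le _ hle)
    rw [Multiset.count_map]
    rw [Multiset.filter_eq_self.2 fun a ha => ?_]
    · decide
    fin_cases ha <;> simp [e4, e5, e6, e7]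
  · refine ⟨aOf v 1, ?_⟩
    have e2 : aOf v 2 = aOf v 1 := hs 1
    have e3 : aOf v 3 = aOf v 1 := (hs 2).trans e2
    have e4 : aOf v 4 = aOf v 1 := (hs 3).trans e3
    have e5 : aOf v 5 = aOf v 1 := (hs 4).trans e4
    have e6 : aOf v 6 = aOf v 1 := (hs 5).trans e5
    have e7 : aOf v 7 = aOf v 1 := (hs 6).trans e6
    have hle : ({1, 2, 3, 4, 5, 6, 7} : Finset (Fin 8)).val.map (aOf v) ≤ coordsM v :=
      Multiset.map_le_map (Finset.val_le_iff.2 (Finset.subset_univ _))
    refine le_trans ?_ (Multiset.count_le_of_le _ hle)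
    rw [Multiset.count_map]
    rw [Multiset.filter_eq_self.2 fun a ha => ?_]
    · decide
    fin_cases ha <;> simp [e2, e3, e4, e5, e6, e7]

end Cfsg.Agent.AltE7
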